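import Mathlib

set_option autoImplicit false

/-!
Elementary lemmas for the counting half of the Brauer–Feit theorem.
-/

open Subgroup MulAction
open scoped Pointwise

namespace Cfsg.Agent.Lib.BrauerFeit.Basic

variable {G : Type*} [Group G]

/-- The group generated by `Z` and the `k`-th powers of `A`. -/
def pw (Z : Subgroup G) (k : ℕ) (A : Subgroup G) : Subgroup G :=
  closure ((Z : Set G) ∪ (fun a => a ^ k) '' (A : Set G))

theorem le_pw (Z : Subgroup G) (k : ℕ) (A : Subgroup G) : Z ≤ pw Z k A :=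
  fun _ hz => subset_closure (Or.inl hz)

theorem pow_mem_pw (Z : Subgroup G) (k : ℕ) {A : Subgroup G} {a : G} (ha : a ∈ A) :
    a ^ k ∈ pw Z k A :=
  subset_closure (Or.inr ⟨a, ha, rfl⟩)

theorem pw_le_iff {Z A B : Subgroup G} {k : ℕ} :
    pw Z k A ≤ B ↔ Z ≤ B ∧ ∀ a ∈ A, a ^ k ∈ B := by
  simp only [pw, closure_le, Set.union_subset_iff, Set.image_subset_iff]
  exact Iff.rfl

theorem pw_le_self {Z A : Subgroup G} (k : ℕ) (h : Z ≤ A) : pw Z k A ≤ A :=
  pw_le_iff.2 ⟨h, fun _ ha => pow_mem ha k⟩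

theorem le_centralizer_singleton {A : Subgroup G} {x : G} (hx : x ∈ A)
    (h : ∀ a ∈ A, ∀ b ∈ A, a * b = b * a) : A ≤ centralizer ({x} : Set G) := by
  intro a ha
  rw [mem_centralizer_singleton_iff]
  exact h a ha x hx

theorem conj_smul_of_mem {Z : Subgroup G} (hZ : Z ≤ Subgroup.center G) (a : G) {z : G}
    (hz : z ∈ Z) : MulAut.conj a • z = z := by
  rw [MulAut.smul_def, MulAut.conj_apply, Subgroup.mem_center_iff.1 (hZ hz) a,
    mul_inv_cancel_right]

theorem conj_smul_mem_iff {Z : Subgroup G} (hZ : Z ≤ Subgroup.center G) (a z : G) :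
    MulAut.conj a • z ∈ Z ↔ z ∈ Z := by
  refine ⟨fun hz => ?_, fun hz => by rwa [conj_smul_of_mem hZ a hz]⟩
  have := conj_smul_of_mem hZ a⁻¹ hz
  rw [map_inv, inv_smul_smul] at this
  rwa [this]

theorem conj_smul_eq_iff {U : Subgroup G} {g : G} :
    MulAut.conj g • U = U ↔ g ∈ Subgroup.normalizer (U : Set G) := by
  rw [Subgroup.mem_normalizer_iff]
  constructor
  · intro e x
    conv_rhs => rw [← e]
    rw [Subgroup.mem_pointwise_smul_iff_inv_smul_mem]
    simp [mul_assoc]
  · intro e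
    ext x
    rw [Subgroup.mem_pointwise_smul_iff_inv_smul_mem, e]
    simp [mul_assoc]

theorem centralizer_conj (g y : G) : centralizer ({MulAut.conj g • y} : Set G) =
    MulAut.conj g • centralizer ({y} : Set G) := by
  ext u
  rw [Subgroup.mem_pointwise_smul_iff_inv_smul_mem, mem_centralizer_singleton_iff,
    mem_centralizer_singleton_iff]
  constructor
  · intro e
    have := congrArg (fun w => (MulAut.conj g)⁻¹ • w) e
    simpa [smul_mul', mul_assoc] using this
  · intro e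
    have := congrArg (fun w => MulAut.conj g • w) e
    simpa [smul_mul', mul_assoc] using this

theorem card_smul (g : G) (A : Subgroup G) :
    Nat.card ↥(MulAut.conj g • A) = Nat.card ↥A :=
  (Nat.card_congr (Subgroup.equivSMul (MulAut.conj g) A).toEquiv).symm

theorem card_mul_relIndex' {A H : Subgroup G} (h : A ≤ H) :
    Nat.card ↥A * A.relIndex H = Nat.card ↥H := by
  rw [← relIndex_bot_left, ← relIndex_bot_left H, relIndex_mul_relIndex _ _ _ bot_le h]

theorem dvd_sum_of_stabilizer {H α : Type*} [Group H] [Finite H] [MulAction H α] [Fintype α]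
    (w : α → ℕ) (hinv : ∀ (h : H) (a : α), w (h • a) = w a)
    (hdvd : ∀ a, Nat.card ↥(stabilizer H a) ∣ w a) : Nat.card H ∣ ∑ a, w a := by
  classical
  have := Fintype.ofFinite H
  rw [← (selfEquivSigmaOrbits H α).symm.sum_comp w]
  rw [Fintype.sum_sigma]
  refine Finset.dvd_sum fun ω _ => ?_
  have hconst : ∀ x : orbit H (Quotient.out ω),
      w ((selfEquivSigmaOrbits H α).symm ⟨ω, x⟩) = w (Quotient.out ω) := by
    intro x
    obtain ⟨h, hh⟩ := x.2
    have e : (selfEquivSigmaOrbits H α).symm ⟨ω, x⟩ = (x : α) := rfl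
    rw [e, ← hh]
    exact hinv h _
  simp only [hconst, Finset.sum_const, Finset.card_univ, smul_eq_mul]
  rw [Nat.card_eq_fintype_card,
    ← card_orbit_mul_card_stabilizer_eq_card_group H (Quotient.out ω)]
  refine Nat.mul_dvd_mul_left _ ?_
  rw [← Nat.card_eq_fintype_card]
  exact hdvd _

variable [Finite G]

theorem relIndex_ne_zero' (A H : Subgroup G) : A.relIndex H ≠ 0 :=
  Subgroup.index_ne_zero_of_finite

theorem card_mul_card_le {U A H : Subgroup G} (hU : U ≤ H) (hA : A ≤ H) :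
    Nat.card ↥U * Nat.card ↥A ≤ Nat.card ↥H * Nat.card ↥(U ⊓ A) := by
  have h1 : A.relIndex U ≤ A.relIndex H :=
    Subgroup.relIndex_le_of_le_right hU (relIndex_ne_zero' _ _)
  have h2 : A.relIndex U * Nat.card ↥(U ⊓ A) = Nat.card ↥U := by
    rw [← inf_relIndex_right A U, inf_comm U A, mul_comm, card_mul_relIndex' inf_le_right]
  have h3 : A.relIndex H * Nat.card ↥A = Nat.card ↥H := by
    rw [mul_comm, card_mul_relIndex' hA]
  rw [← h2, ← h3, mul_assoc, mul_assoc, mul_comm (Nat.card ↥(U ⊓ A))]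
  exact Nat.mul_le_mul_right _ h1

theorem card_le_mul_inf {U A H : Subgroup G} (hU : U ≤ H) (hA : A ≤ H) {c : ℕ}
    (hc : Nat.card ↥H ≤ c * Nat.card ↥A) : Nat.card ↥U ≤ c * Nat.card ↥(U ⊓ A) := by
  have h := card_mul_card_le hU hA
  refine Nat.le_of_mul_le_mul_right ?_ (Nat.card_pos : 0 < Nat.card ↥A)
  calc Nat.card ↥U * Nat.card ↥A ≤ Nat.card ↥H * Nat.card ↥(U ⊓ A) := h
    _ ≤ c * Nat.card ↥A * Nat.card ↥(U ⊓ A) := Nat.mul_le_mul_right _ hc
    _ = _ := by ring

theorem pow_factorial_mem {A H : Subgroup G} (hA : A ≤ H) {c : ℕ}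
    (hc : Nat.card ↥H ≤ c * Nat.card ↥A) {u : G} (hu : u ∈ H) :
    u ^ (Nat.factorial c) ∈ A := by
  obtain ⟨j, hj, hjle, hmem⟩ := exists_pow_mem_of_relIndex_ne_zero (relIndex_ne_zero' A H) hu
  have hle : A.relIndex H ≤ c := by
    rw [← card_mul_relIndex' hA, mul_comm c] at hc
    exact Nat.le_of_mul_le_mul_left hc Nat.card_pos
  obtain ⟨d, hd⟩ := Nat.dvd_factorial hj (hjle.trans hle)
  rw [hd, pow_mul]
  exact pow_mem hmem.1 d

theorem card_lt_exists {Z U : Subgroup G} (h : Nat.card ↥Z < Nat.card ↥U) :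
    ∃ z ∈ U, z ∉ Z := by
  by_contra hc
  push Not at hc
  exact absurd h (not_lt.2 (Subgroup.card_le_of_le hc))

end Cfsg.Agent.Lib.BrauerFeit.Basic
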