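import Cfsg.Agent.Lib.BrauerFeit.Basic

set_option autoImplicit false

/-!
The class equation argument: a finite group with a trivially intersecting family of big
abelian subgroups that governs all big centralisers has a large abelian subgroup.
-/

open Subgroup MulAction Cfsg.Agent.Lib.BrauerFeit.Basic
open scoped Pointwise

namespace Cfsg.Agent.Lib.BrauerFeit.Count

variable {G : Type*} [Group G]

/-- The value of the factorial multiplier at a scale `r`. -/
def mult (n d W r : ℕ) : ℕ := Nat.factorial (max (max d 1) (n * (W * r)))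

/-- The scales. -/
def scale (n d W R₁ : ℕ) : ℕ → ℕ
  | 0 => R₁
  | i + 1 => max (scale n d W R₁ i) (mult n d W (scale n d W R₁ i) + 1)

theorem scale_mono (n d W R₁ : ℕ) : Monotone (scale n d W R₁) :=
  monotone_nat_of_le_succ fun _ => le_max_left _ _

theorem mult_mono (n d W : ℕ) : Monotone (mult n d W) := fun _ _ h =>
  Nat.factorial_le (max_le_max le_rfl (Nat.mul_le_mul_left _ (Nat.mul_le_mul_left _ h)))

/-- The elements with a large centraliser in `U`. -/
def bigSet (Z : Subgroup G) (R₁ : ℕ) (U : Subgroup G) : Set G :=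
  {y | R₁ * Nat.card ↥Z < Nat.card ↥(U ⊓ centralizer ({y} : Set G) : Subgroup G)}

/-- A system of cores. -/
structure Cores (Z : Subgroup G) (T : Finset (Subgroup G)) (d W R₁ n : ℕ) : Prop where
  center : Z ≤ Subgroup.center G
  le : ∀ U ∈ T, Z ≤ U
  comm : ∀ U ∈ T, ∀ a ∈ U, ∀ b ∈ U, a * b = b * a
  conj : ∀ U ∈ T, ∀ g : G, MulAut.conj g • U ∈ T
  ti : ∀ U ∈ T, ∀ U' ∈ T, ∀ z ∈ U, z ∈ U' → z ∉ Z → U = U'
  normalizer : ∀ U ∈ T, R₁ * Nat.card ↥Z < Nat.card ↥U →
    Nat.card ↥(Subgroup.normalizer (U : Set G)) ≤ d * Nat.card ↥U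
  assoc : ∀ y, y ∉ Z → R₁ * Nat.card ↥Z < Nat.card ↥(centralizer ({y} : Set G)) →
    ∃ U ∈ T, Nat.card ↥(centralizer ({y} : Set G)) ≤
      W * Nat.card ↥(centralizer ({y} : Set G) ⊓ U)
  twist : ∀ x, Nat.card {y : G // y * x * y⁻¹ * x⁻¹ ∈ Z} ≤
    n * Nat.card ↥(centralizer ({x} : Set G))
  one_le : 1 ≤ R₁
  one_le_W : 1 ≤ W
  W_le : W ≤ R₁

variable [Finite G] {Z : Subgroup G} {T : Finset (Subgroup G)} {d W R₁ n : ℕ}

theorem card_sdiff_eq (h : Cores Z T d W R₁ n) [Fintype G] [DecidableEq G]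
    [DecidablePred (· ∈ Z)] {s : Set G} [DecidablePred (· ∈ s)] (hs : ∀ z ∈ Z, z ∈ s) :
    (Finset.univ.filter fun x => x ∈ s ∧ x ∉ Z).card + Nat.card ↥Z = Nat.card ↥s := by
  rw [show Nat.card ↥Z = (Finset.univ.filter fun x => x ∈ Z).card by
      rw [← Fintype.card_subtype, ← Nat.card_eq_fintype_card],
    show Nat.card ↥s = (Finset.univ.filter fun x => x ∈ s).card by
      rw [← Fintype.card_subtype, ← Nat.card_eq_fintype_card],
    ← Finset.card_union_of_disjoint]
  · congr 1
    ext x
    simp only [Finset.mem_union, Finset.mem_filter, Finset.mem_univ, true_and]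
    exact ⟨fun hx => hx.elim And.left (hs x), fun hx => (em (x ∈ Z)).symm.imp (⟨hx, ·⟩) id⟩
  · rw [Finset.disjoint_left]
    intro x hx hx'
    simp only [Finset.mem_filter] at hx hx'
    exact hx.2.2 hx'.2

theorem sum_card_sub_le (h : Cores Z T d W R₁ n) {s : Finset (Subgroup G)} (hs : s ⊆ T) :
    ∑ U ∈ s, (Nat.card ↥U - Nat.card ↥Z) ≤ Nat.card G := by
  classical
  have := Fintype.ofFinite G
  let f : Subgroup G → Finset G := fun U =>
    Finset.univ.filter fun x => x ∈ (U : Set G) ∧ x ∉ Z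
  have hf : ∀ U ∈ s, (f U).card = Nat.card ↥U - Nat.card ↥Z := fun U hU => by
    have : (f U).card + Nat.card ↥Z = Nat.card ↥U :=
      card_sdiff_eq h (s := (U : Set G)) fun z hz => h.le U (hs hU) hz
    omega
  rw [← Finset.sum_congr rfl hf, ← Finset.card_biUnion, Nat.card_eq_fintype_card]
  · exact Finset.card_le_univ _
  · intro U hU U' hU' hne
    rw [Function.onFun, Finset.disjoint_left]
    intro x hx hx'
    simp only [f, Finset.mem_filter, Finset.mem_univ, true_and] at hx hx'
    exact hne (h.ti U (hs hU) U' (hs hU') x hx.1 hx'.1 hx.2)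

theorem card_values_le (h : Cores Z T d W R₁ n) :
    ((T.filter fun U : Subgroup G => R₁ * Nat.card ↥Z < Nat.card ↥U).image
      fun U : Subgroup G => Nat.card ↥U).card ≤ 2 * d := by
  classical
  set B := T.filter fun U : Subgroup G => R₁ * Nat.card ↥Z < Nat.card ↥U with hB
  set V := B.image fun U : Subgroup G => Nat.card ↥U with hV
  suffices H : V.card * Nat.card G ≤ 2 * d * Nat.card G from
    Nat.le_of_mul_le_mul_right H Nat.card_pos
  calc V.card * Nat.card G = ∑ v ∈ V, Nat.card G := by simp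
    _ ≤ ∑ v ∈ V, 2 * d * ∑ U ∈ B.filter (fun U : Subgroup G => Nat.card ↥U = v),
          (Nat.card ↥U - Nat.card ↥Z) := by
        refine Finset.sum_le_sum fun v hv => ?_
        obtain ⟨U, hU, rfl⟩ := Finset.mem_image.1 hv
        obtain ⟨hUT, hUbig⟩ := Finset.mem_filter.1 hU
        let _ : MulAction G (Subgroup G) := MulAction.compHom _ (MulAut.conj : G →* MulAut G)
        have hstab : stabilizer G U = Subgroup.normalizer (U : Set G) := by
          ext g
          rw [mem_stabilizer_iff]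
          change MulAut.conj g • U = U ↔ _
          exact conj_smul_eq_iff
        set S := B.filter (fun U' : Subgroup G => Nat.card ↥U' = Nat.card ↥U) with hS
        have horb : orbit G U ⊆ ↑S := by
          rintro U' ⟨g, rfl⟩
          change MulAut.conj g • U ∈ S
          simp only [hS, hB, Finset.mem_filter, card_smul]
          exact ⟨⟨h.conj U hUT g, hUbig⟩, trivial⟩
        have := Fintype.ofFinite G
        have hos := card_orbit_mul_card_stabilizer_eq_card_group G U
        rw [← Nat.card_eq_fintype_card, ← Nat.card_eq_fintype_card, ← Nat.card_eq_fintype_card,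
          hstab] at hos
        have hcnt : Nat.card ↥(orbit G U) ≤ S.card := by
          rw [← Set.ncard_coe_finset, Nat.card_coe_set_eq]
          exact Set.ncard_le_ncard horb S.finite_toSet
        have hhalf : Nat.card ↥U ≤ 2 * (Nat.card ↥U - Nat.card ↥Z) := by
          obtain ⟨k, hk⟩ := Subgroup.card_dvd_of_le (h.le U hUT)
          have h1 : Nat.card ↥Z < Nat.card ↥U :=
            lt_of_le_of_lt (Nat.le_mul_of_pos_left _ h.one_le) hUbig
          have : Nat.card ↥Z * 2 ≤ Nat.card ↥U := by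
            rw [hk] at h1 ⊢
            exact Nat.mul_le_mul_left _ ((lt_mul_iff_one_lt_right Nat.card_pos).1 h1)
          omega
        calc Nat.card G = Nat.card ↥(orbit G U) * Nat.card ↥(Subgroup.normalizer (U : Set G)) :=
              hos.symm
          _ ≤ S.card * (d * (2 * (Nat.card ↥U - Nat.card ↥Z))) :=
              Nat.mul_le_mul hcnt ((h.normalizer U hUT hUbig).trans (Nat.mul_le_mul_left _ hhalf))
          _ = _ := by
              rw [Finset.sum_congr rfl (g := fun _ => Nat.card ↥U - Nat.card ↥Z)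
                (fun U' hU' => by rw [(Finset.mem_filter.1 hU').2]), Finset.sum_const, smul_eq_mul]
              ring
    _ = 2 * d * ∑ U ∈ B, (Nat.card ↥U - Nat.card ↥Z) := by
        rw [← Finset.mul_sum, Finset.sum_fiberwise_of_maps_to]
        intro U hU
        exact Finset.mem_image_of_mem _ hU
    _ ≤ 2 * d * Nat.card G :=
        Nat.mul_le_mul_left _ (sum_card_sub_le h (Finset.filter_subset _ _))

theorem exists_gap (h : Cores Z T d W R₁ n) :
    ∃ i ≤ 2 * d, ∀ U ∈ T, Nat.card ↥U ≤ scale n d W R₁ i * Nat.card ↥Z ∨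
      scale n d W R₁ (i + 1) * Nat.card ↥Z < Nat.card ↥U := by
  classical
  by_contra hc
  push Not at hc
  choose! u huT hu1 hu2 using hc
  have key : ∀ a b, a ≤ 2 * d → b ≤ 2 * d → a < b → Nat.card ↥(u a) < Nat.card ↥(u b) :=
    fun a b ha hb hab => lt_of_le_of_lt ((hu2 a ha).trans
      (Nat.mul_le_mul_right _ (scale_mono _ _ _ _ hab))) (hu1 b hb)
  have hsub : (Finset.range (2 * d + 1)).image (fun i => Nat.card ↥(u i)) ⊆
      (T.filter fun U : Subgroup G => R₁ * Nat.card ↥Z < Nat.card ↥U).image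
        fun U : Subgroup G => Nat.card ↥U := by
    intro v hv
    obtain ⟨i, hi, rfl⟩ := Finset.mem_image.1 hv
    have hi' : i ≤ 2 * d := by simpa [Nat.lt_succ_iff] using hi
    exact Finset.mem_image.2 ⟨u i, Finset.mem_filter.2 ⟨huT i hi', lt_of_le_of_lt
      (Nat.mul_le_mul_right _ (scale_mono n d W R₁ (Nat.zero_le i))) (hu1 i hi')⟩, rfl⟩
  have hinj : Set.InjOn (fun i => Nat.card ↥(u i)) ↑(Finset.range (2 * d + 1)) := by
    intro i hi j hj e
    simp only [Finset.coe_range, Set.mem_Iio, Nat.lt_succ_iff] at hi hj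
    rcases lt_trichotomy i j with hlt | heq | hlt
    · exact absurd e (key i j hi hj hlt).ne
    · exact heq
    · exact absurd e.symm (key j i hj hi hlt).ne
  have hcard := (Finset.card_le_card hsub).trans (card_values_le h)
  rw [Finset.card_image_of_injOn hinj, Finset.card_range] at hcard
  omega

theorem mem_bigSet (h : Cores Z T d W R₁ n) {U : Subgroup G} (hU : U ∈ T)
    (hbig : R₁ * Nat.card ↥Z < Nat.card ↥U) {y : G} (hy : y ∈ U) : y ∈ bigSet Z R₁ U := by
  change _ < Nat.card ↥(U ⊓ centralizer ({y} : Set G) : Subgroup G)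
  rwa [inf_eq_left.2 (le_centralizer_singleton hy (h.comm U hU))]

theorem bigSet_subset_normalizer (h : Cores Z T d W R₁ n) {U : Subgroup G} (hU : U ∈ T) :
    bigSet Z R₁ U ⊆ (Subgroup.normalizer (U : Set G) : Subgroup G) := by
  intro y hy
  obtain ⟨v, hv, hvZ⟩ := card_lt_exists (Z := Z)
    (lt_of_le_of_lt (Nat.le_mul_of_pos_left _ h.one_le) hy)
  have hcomm := mem_centralizer_singleton_iff.1 hv.2
  have hfix : MulAut.conj y • v = v := by
    rw [MulAut.smul_def, MulAut.conj_apply, ← hcomm, mul_inv_cancel_right]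
  have hmem := Subgroup.smul_mem_pointwise_smul v (MulAut.conj y) U hv.1
  rw [hfix] at hmem
  exact conj_smul_eq_iff.1 (h.ti _ (h.conj U hU y) U hU v hmem hv.1 hvZ)

theorem bigSet_eq (h : Cores Z T d W R₁ n) {U U' : Subgroup G} (hU : U ∈ T) (hU' : U' ∈ T)
    {y : G} (hyZ : y ∉ Z) (hy : y ∈ bigSet Z R₁ U) (hy' : y ∈ bigSet Z R₁ U') : U = U' := by
  obtain ⟨V, hV, hc⟩ := h.assoc y hyZ
    (lt_of_lt_of_le hy (Subgroup.card_le_of_le inf_le_right))
  have key : ∀ U ∈ T, y ∈ bigSet Z R₁ U → U = V := by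
    intro U hU hy
    have hle := card_le_mul_inf (U := U ⊓ centralizer ({y} : Set G))
      (A := centralizer ({y} : Set G) ⊓ V) inf_le_right inf_le_left hc
    obtain ⟨v, hv, hvZ⟩ := card_lt_exists (Z := Z)
      (U := (U ⊓ centralizer ({y} : Set G)) ⊓ (centralizer ({y} : Set G) ⊓ V)) (by
        by_contra hcon
        exact absurd (hle.trans (Nat.mul_le_mul h.W_le (not_lt.1 hcon))) (not_le.2 hy))
    exact h.ti U hU V hV v hv.1.1 hv.2.2 hvZ
  rw [key U hU hy, key U' hU' hy']

theorem bigSet_conj (h : Cores Z T d W R₁ n) (g : G) (U : Subgroup G) (y : G) :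
    MulAut.conj g • y ∈ bigSet Z R₁ (MulAut.conj g • U) ↔ y ∈ bigSet Z R₁ U := by
  simp only [bigSet, Set.mem_ofPred_eq]
  rw [centralizer_conj, ← Subgroup.smul_inf, card_smul]

theorem card_bigSet_conj (h : Cores Z T d W R₁ n) (g : G) (U : Subgroup G) :
    Nat.card ↥(bigSet Z R₁ (MulAut.conj g • U)) = Nat.card ↥(bigSet Z R₁ U) :=
  (Nat.card_congr ((MulAction.toPerm (MulAut.conj g) : Equiv.Perm G).subtypeEquiv
    fun y => (bigSet_conj h g U y).symm)).symm

theorem card_dvd_bigSet (h : Cores Z T d W R₁ n) {U : Subgroup G} (hU : U ∈ T) :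
    Nat.card ↥U ∣ Nat.card ↥(bigSet Z R₁ U) := by
  classical
  have := Fintype.ofFinite G
  let _ : MulAction ↥U ↥(bigSet Z R₁ U) :=
    { smul := fun u y => ⟨(u : G) * y, by
        have e : U ⊓ centralizer ({(u : G) * y} : Set G) =
            U ⊓ centralizer ({(y : G)} : Set G) := by
          ext v
          simp only [Subgroup.mem_inf, mem_centralizer_singleton_iff]
          refine and_congr_right fun hv => ?_
          rw [← mul_assoc v, h.comm U hU v hv u u.2, mul_assoc, mul_assoc (u : G)]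
          exact mul_right_inj _
        change _ < Nat.card ↥(_ : Subgroup G)
        rw [e]
        exact y.2⟩
      one_smul := fun y => Subtype.ext (one_mul _)
      mul_smul := fun a b y => Subtype.ext (mul_assoc _ _ _) }
  have := dvd_sum_of_stabilizer (H := ↥U) (α := ↥(bigSet Z R₁ U)) (fun _ => 1) (fun _ _ => rfl)
    (fun a => by
      have : stabilizer ↥U a = ⊥ := by
        ext u
        simp only [mem_stabilizer_iff, Subgroup.mem_bot]
        constructor
        · intro e
          exact Subtype.ext (mul_eq_right.1 (congrArg Subtype.val e :))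
        · rintro rfl; exact one_smul _ _
      simp [this])
  simpa [Nat.card_eq_fintype_card] using this

/-- The elements outside the large `bigSet`s, modulo `Z`, are governed by small centralisers. -/
theorem dvd_mul_card_small (h : Cores Z T d W R₁ n) {K F : ℕ} (S : Set G)
    (hF : ∀ j, 0 < j → j ≤ n * K → j ∣ F)
    (hSZ : ∀ y ∈ S, ∀ z ∈ Z, y * z ∈ S) (hSc : ∀ y ∈ S, ∀ g : G, MulAut.conj g • y ∈ S)
    (hSK : ∀ y ∈ S, Nat.card ↥(centralizer ({y} : Set G)) ≤ K * Nat.card ↥Z) :
    Nat.card G ∣ F * Nat.card ↥S := by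
  classical
  have hn : Z.Normal := ⟨fun z hz g => by
    rwa [Subgroup.mem_center_iff.1 (h.center hz) g, mul_inv_cancel_right]⟩
  have := Fintype.ofFinite (G ⧸ Z)
  set S' : Set (G ⧸ Z) := (QuotientGroup.mk '' S) with hS'
  have hpre : QuotientGroup.mk ⁻¹' S' = S := by
    ext y
    constructor
    · rintro ⟨x, hx, e⟩
      have := QuotientGroup.eq.1 e
      simpa using hSZ x hx _ this
    · exact fun hy => ⟨y, hy, rfl⟩
  have hcS : Nat.card ↥S = Nat.card ↥Z * Nat.card ↥S' := by
    rw [← hpre, Nat.card_congr (QuotientGroup.preimageMkEquivSubgroupProdSet Z S'), Nat.card_prod]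
  have hq := dvd_sum_of_stabilizer (H := ConjAct (G ⧸ Z)) (α := G ⧸ Z)
    (fun q => if q ∈ S' then F else 0) (fun c q => by
      have key : ∀ (c : ConjAct (G ⧸ Z)) (q : G ⧸ Z), q ∈ S' → c • q ∈ S' := by
        rintro c _ ⟨y, hy, rfl⟩
        obtain ⟨g, hg⟩ := QuotientGroup.mk_surjective (ConjAct.ofConjAct c)
        refine ⟨MulAut.conj g • y, hSc y hy g, ?_⟩
        simp [ConjAct.smul_def, ← hg, MulAut.smul_def]
      have hiff : c • q ∈ S' ↔ q ∈ S' :=
        ⟨fun hc => by simpa using key c⁻¹ _ hc, key c q⟩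
      simp only [hiff])
    (fun q => by
      split_ifs with hq
      · obtain ⟨y, hy, rfl⟩ := hq
        refine hF _ Nat.card_pos ?_
        refine Nat.le_of_mul_le_mul_left ?_ (Nat.card_pos : 0 < Nat.card ↥Z)
        calc Nat.card ↥Z * Nat.card ↥(stabilizer (ConjAct (G ⧸ Z)) (y : G ⧸ Z))
            = Nat.card {g : G // g * y * g⁻¹ * y⁻¹ ∈ Z} := by
              have e1 : Nat.card ↥(stabilizer (ConjAct (G ⧸ Z)) (y : G ⧸ Z)) =
                  Nat.card ↥{q : G ⧸ Z | q * y * q⁻¹ * (y : G ⧸ Z)⁻¹ = 1} :=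
                Nat.card_congr (ConjAct.ofConjAct.toEquiv.subtypeEquiv fun c => by
                  simp [ConjAct.smul_def, mul_inv_eq_one])
              rw [e1, ← Nat.card_prod,
                ← Nat.card_congr (QuotientGroup.preimageMkEquivSubgroupProdSet Z _)]
              exact Nat.card_congr (Equiv.subtypeEquivRight fun g => by
                simp only [Set.mem_preimage, Set.mem_ofPred_eq, ← QuotientGroup.mk_inv,
                  ← QuotientGroup.mk_mul, QuotientGroup.eq_one_iff])
          _ ≤ n * Nat.card ↥(centralizer ({y} : Set G)) := h.twist y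
          _ ≤ n * (K * Nat.card ↥Z) := Nat.mul_le_mul_left _ (hSK y hy)
          _ = _ := by ring
      · exact dvd_zero _)
  rw [Finset.sum_ite, Finset.sum_const_zero, add_zero, Finset.sum_const, smul_eq_mul,
    ← Fintype.card_subtype, ← Nat.card_eq_fintype_card] at hq
  have e : Nat.card (ConjAct (G ⧸ Z)) = Nat.card (G ⧸ Z) :=
    Nat.card_congr ConjAct.ofConjAct.toEquiv
  rw [e] at hq
  rw [Z.card_eq_card_quotient_mul_card_subgroup, hcS]
  obtain ⟨k, hk⟩ := hq
  exact ⟨k, by linear_combination (Nat.card ↥Z) * hk⟩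

theorem dvd_mul_sum_bigSet (h : Cores Z T d W R₁ n) {F : ℕ} (hF : ∀ j, 0 < j → j ≤ d → j ∣ F)
    {B : Finset (Subgroup G)} (hBT : B ⊆ T) (hBc : ∀ U ∈ B, ∀ g : G, MulAut.conj g • U ∈ B)
    (hBbig : ∀ U ∈ B, R₁ * Nat.card ↥Z < Nat.card ↥U) :
    Nat.card G ∣ F * ∑ U ∈ B, Nat.card ↥(bigSet Z R₁ U) := by
  classical
  let _ : MulAction G {U // U ∈ B} :=
    { smul := fun g U => ⟨MulAut.conj g • U.1, hBc U.1 U.2 g⟩
      one_smul := fun U => Subtype.ext (by
        change MulAut.conj (1 : G) • U.1 = U.1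
        rw [map_one, one_smul])
      mul_smul := fun a b U => Subtype.ext (by
        change MulAut.conj (a * b) • U.1 = MulAut.conj a • MulAut.conj b • U.1
        rw [map_mul, mul_smul]) }
  have := dvd_sum_of_stabilizer (H := G) (α := {U // U ∈ B})
    (fun U => F * Nat.card ↥(bigSet Z R₁ U.1))
    (fun g U => congrArg (F * ·) (card_bigSet_conj h g U.1))
    (fun U => by
      have hst : stabilizer G U = Subgroup.normalizer ((U.1 : Subgroup G) : Set G) := by
        ext g
        rw [mem_stabilizer_iff, ← conj_smul_eq_iff]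
        exact Subtype.ext_iff
      rw [hst]
      obtain ⟨c, hc⟩ := card_dvd_bigSet h (hBT U.2)
      obtain ⟨δ, hδ⟩ := Subgroup.card_dvd_of_le
        (show U.1 ≤ Subgroup.normalizer ((U.1 : Subgroup G) : Set G) from Subgroup.le_normalizer)
      have hδ0 : 0 < δ := by
        rcases Nat.eq_zero_or_pos δ with h0 | h0
        · exact absurd (h0 ▸ hδ) (by simp [Nat.card_pos.ne'])
        · exact h0
      have hδd : δ ≤ d := by
        have := h.normalizer U.1 (hBT U.2) (hBbig U.1 U.2)
        rw [hδ, mul_comm d] at this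
        exact Nat.le_of_mul_le_mul_left this Nat.card_pos
      rw [hδ, hc, mul_comm F]
      exact (Nat.mul_dvd_mul_left _ (hF δ hδ0 hδd)).trans (Dvd.intro c (by ring)))
  rw [← Finset.mul_sum] at this
  rwa [Finset.sum_coe_sort B (fun U => Nat.card ↥(bigSet Z R₁ U))] at this

/-- The class equation argument. -/
theorem exists_abelian (h : Cores Z T d W R₁ n) :
    ∃ A : Subgroup G, (∀ a ∈ A, ∀ b ∈ A, a * b = b * a) ∧
      Nat.card G ≤ (d + mult n d W (scale n d W R₁ (2 * d))) * Nat.card ↥A := by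
  classical
  have := Fintype.ofFinite G
  obtain ⟨i, hi, hgap⟩ := exists_gap h
  set r := scale n d W R₁ i with hr
  set F := mult n d W r with hF
  set r' := scale n d W R₁ (i + 1) with hr'
  have hFle : F ≤ mult n d W (scale n d W R₁ (2 * d)) :=
    mult_mono n d W (scale_mono n d W R₁ hi)
  have hR₁r : R₁ ≤ r := scale_mono n d W R₁ (Nat.zero_le i)
  have hR₁r' : R₁ ≤ r' := scale_mono n d W R₁ (Nat.zero_le (i + 1))
  have hFr' : F < r' := lt_of_lt_of_le (Nat.lt_succ_self _) (le_max_right _ _)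
  set z := Nat.card ↥Z with hz
  have hz0 : 0 < z := Nat.card_pos
  set B := T.filter fun U : Subgroup G => r' * z < Nat.card ↥U with hB
  have hBT : B ⊆ T := Finset.filter_subset _ _
  have hBbig : ∀ U ∈ B, R₁ * z < Nat.card ↥U := fun U hU =>
    lt_of_le_of_lt (Nat.mul_le_mul_right _ hR₁r') (Finset.mem_filter.1 hU).2
  have hBc : ∀ U ∈ B, ∀ g : G, MulAut.conj g • U ∈ B := fun U hU g => by
    simp only [hB, Finset.mem_filter, card_smul] at hU ⊢
    exact ⟨h.conj U hU.1 g, hU.2⟩
  set S : Set G := {y | y ∉ Z ∧ ∀ U ∈ B, y ∉ bigSet Z R₁ U} with hS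
  have hSK : ∀ y ∈ S, Nat.card ↥(centralizer ({y} : Set G)) ≤ W * r * z := by
    intro y hy
    have hrW : r * z ≤ W * r * z :=
      Nat.mul_le_mul_right _ (Nat.le_mul_of_pos_left _ h.one_le_W)
    by_cases hb : R₁ * z < Nat.card ↥(centralizer ({y} : Set G))
    · obtain ⟨U, hU, hc⟩ := h.assoc y hy.1 hb
      refine hc.trans ?_
      rw [mul_assoc]
      refine Nat.mul_le_mul_left _ ?_
      by_contra hcon
      rw [not_le] at hcon
      have hUbig : y ∈ bigSet Z R₁ U := by
        change R₁ * z < Nat.card ↥(U ⊓ centralizer ({y} : Set G) : Subgroup G)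
        rw [inf_comm]
        exact lt_of_le_of_lt (Nat.mul_le_mul_right _ hR₁r) hcon
      have hUnot : U ∉ B := fun hUB => hy.2 U hUB hUbig
      rcases hgap U hU with hle | hgt
      · exact absurd (lt_of_lt_of_le hcon
          ((Subgroup.card_le_of_le inf_le_right).trans hle)) (lt_irrefl _)
      · exact hUnot (Finset.mem_filter.2 ⟨hU, hgt⟩)
    · exact (not_lt.1 hb).trans ((Nat.mul_le_mul_right _ hR₁r).trans hrW)
  have hSZ : ∀ y ∈ S, ∀ w ∈ Z, y * w ∈ S := by
    intro y hy w hw
    refine ⟨fun hc => hy.1 (by simpa using mul_mem hc (inv_mem hw)), fun U hU hyU => hy.2 U hU ?_⟩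
    have e : centralizer ({y * w} : Set G) = centralizer ({y} : Set G) := by
      ext v
      rw [mem_centralizer_singleton_iff, mem_centralizer_singleton_iff, ← mul_assoc,
        mul_assoc y w v, ← Subgroup.mem_center_iff.1 (h.center hw) v, ← mul_assoc,
        mul_left_inj]
    simp only [bigSet, Set.mem_ofPred_eq] at hyU ⊢
    rwa [e] at hyU
  have hSc : ∀ y ∈ S, ∀ g : G, MulAut.conj g • y ∈ S := by
    intro y hy g
    refine ⟨fun hc => hy.1 ((conj_smul_mem_iff h.center g y).1 hc), fun U hU hc => ?_⟩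
    refine hy.2 _ (hBc U hU g⁻¹) ?_
    have := (bigSet_conj h g⁻¹ U (MulAut.conj g • y)).2 hc
    rw [map_inv, inv_smul_smul] at this
    rw [map_inv]
    exact this
  have hFdvd : ∀ j, 0 < j → j ≤ max (max d 1) (n * (W * r)) → j ∣ F :=
    fun j hj hle => Nat.dvd_factorial hj hle
  have hdS := dvd_mul_card_small h S (K := W * r) (F := F)
    (fun j hj hle => hFdvd j hj (hle.trans (le_max_right _ _))) hSZ hSc hSK
  have hdB := dvd_mul_sum_bigSet h (F := F)
    (fun j hj hle => hFdvd j hj (hle.trans ((le_max_left _ _).trans (le_max_left _ _))))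
    hBT hBc hBbig
  -- the class equation
  let f : Subgroup G → Finset G := fun U =>
    Finset.univ.filter fun x => x ∈ bigSet Z R₁ U ∧ x ∉ Z
  have hf : ∀ U ∈ B, (f U).card + z = Nat.card ↥(bigSet Z R₁ U) := fun U hU =>
    card_sdiff_eq h fun w hw => mem_bigSet h (hBT hU) (hBbig U hU) (h.le U (hBT hU) hw)
  have hdisj : (B : Set (Subgroup G)).PairwiseDisjoint f := by
    intro U hU U' hU' hne
    rw [Function.onFun, Finset.disjoint_left]
    intro x hx hx'
    simp only [f, Finset.mem_filter, Finset.mem_univ, true_and] at hx hx'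
    exact hne (bigSet_eq h (hBT hU) (hBT hU') hx.2 hx.1 hx'.1)
  have hclass : Nat.card G + B.card * z =
      z + (∑ U ∈ B, Nat.card ↥(bigSet Z R₁ U)) + Nat.card ↥S := by
    have hu : (Finset.univ : Finset G) = ((Finset.univ.filter fun x => x ∈ Z) ∪ B.biUnion f) ∪
        Finset.univ.filter fun x => x ∈ S := by
      ext x
      simp only [Finset.mem_univ, Finset.mem_union, Finset.mem_filter, true_and,
        Finset.mem_biUnion, f, true_iff]
      by_cases hx : x ∈ Z
      · exact Or.inl (Or.inl hx)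
      · by_cases hB' : ∃ U ∈ B, x ∈ bigSet Z R₁ U
        · obtain ⟨U, hU, hxU⟩ := hB'
          exact Or.inl (Or.inr ⟨U, hU, hxU, hx⟩)
        · exact Or.inr ⟨hx, fun U hU hxU => hB' ⟨U, hU, hxU⟩⟩
    have hd1 : Disjoint (Finset.univ.filter fun x => x ∈ Z) (B.biUnion f) := by
      rw [Finset.disjoint_left]
      intro x hx hx'
      simp only [Finset.mem_filter, Finset.mem_univ, true_and, Finset.mem_biUnion, f] at hx hx'
      obtain ⟨U, -, -, hxZ⟩ := hx'
      exact hxZ hx
    have hd2 : Disjoint ((Finset.univ.filter fun x => x ∈ Z) ∪ B.biUnion f)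
        (Finset.univ.filter fun x => x ∈ S) := by
      rw [Finset.disjoint_left]
      intro x hx hx'
      simp only [Finset.mem_filter, Finset.mem_univ, true_and, Finset.mem_biUnion, f,
        Finset.mem_union] at hx hx'
      rcases hx with hx | ⟨U, hU, hxU, -⟩
      · exact hx'.1 hx
      · exact hx'.2 U hU hxU
    have hG := congrArg Finset.card hu
    rw [Finset.card_union_of_disjoint hd2, Finset.card_union_of_disjoint hd1,
      Finset.card_biUnion hdisj, Finset.card_univ, ← Fintype.card_subtype,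
      ← Fintype.card_subtype, ← Nat.card_eq_fintype_card, ← Nat.card_eq_fintype_card,
      ← Nat.card_eq_fintype_card] at hG
    have hs : ∑ U ∈ B, (f U).card + B.card * z = ∑ U ∈ B, Nat.card ↥(bigSet Z R₁ U) := by
      rw [← Finset.sum_congr rfl hf, Finset.sum_add_distrib, Finset.sum_const, smul_eq_mul]
    change Nat.card G = z + _ + Nat.card ↥S at hG
    omega
  have hint : (Nat.card G : ℤ) ∣ (F : ℤ) * z * ((B.card : ℤ) - 1) := by
    have h1 : (Nat.card G : ℤ) ∣ (F : ℤ) * (∑ U ∈ B, Nat.card ↥(bigSet Z R₁ U) : ℕ) := by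
      exact_mod_cast hdB
    have h2 : (Nat.card G : ℤ) ∣ (F : ℤ) * (Nat.card ↥S : ℕ) := by exact_mod_cast hdS
    have h3 : (Nat.card G : ℤ) ∣ (F : ℤ) * Nat.card G := dvd_mul_left _ _
    have e : (F : ℤ) * z * ((B.card : ℤ) - 1) =
        (F : ℤ) * (∑ U ∈ B, Nat.card ↥(bigSet Z R₁ U) : ℕ) + (F : ℤ) * (Nat.card ↥S : ℕ)
          - (F : ℤ) * Nat.card G := by
      have := congrArg (fun m : ℕ => (F : ℤ) * (m : ℤ)) hclass
      push_cast at this ⊢
      linear_combination this
    rw [e]
    exact dvd_sub (dvd_add h1 h2) h3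
  have hF0 : 0 < F := Nat.factorial_pos _
  rcases Nat.lt_trichotomy B.card 1 with hN | hN | hN
  · -- no big subgroup: `Z` has bounded index
    have hN0 : B.card = 0 := by omega
    refine ⟨Z, fun a ha b _ => (Subgroup.mem_center_iff.1 (h.center ha) b).symm, ?_⟩
    rw [hN0] at hint
    have hdvd : Nat.card G ∣ F * z := by
      have : (Nat.card G : ℤ) ∣ (F : ℤ) * z := by simpa using hint
      exact_mod_cast this
    refine (Nat.le_of_dvd (Nat.mul_pos hF0 hz0) hdvd).trans (Nat.mul_le_mul_right _ ?_)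
    omega
  · -- a single normal big subgroup
    obtain ⟨U, hU⟩ := Finset.card_eq_one.1 hN
    have hUB : U ∈ B := by simp [hU]
    have hnorm : Subgroup.normalizer (U : Set G) = ⊤ := by
      rw [eq_top_iff]
      intro g _
      refine conj_smul_eq_iff.1 ?_
      have := hBc U hUB g
      rw [hU, Finset.mem_singleton] at this
      exact this
    refine ⟨U, h.comm U (hBT hUB), ?_⟩
    have := h.normalizer U (hBT hUB) (hBbig U hUB)
    rw [hnorm, Subgroup.card_top] at this
    exact this.trans (Nat.mul_le_mul_right _ (Nat.le_add_right _ _))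
  · -- several big subgroups are impossible
    exfalso
    have hpos : (0 : ℤ) < (F : ℤ) * z * ((B.card : ℤ) - 1) := by
      have : (0 : ℤ) < (B.card : ℤ) - 1 := by omega
      positivity
    have hle : (Nat.card G : ℤ) ≤ (F : ℤ) * z * ((B.card : ℤ) - 1) := Int.le_of_dvd hpos hint
    have hsum : B.card * (F * z) ≤ Nat.card G := by
      refine le_trans ?_ (sum_card_sub_le h hBT)
      rw [← smul_eq_mul, ← Finset.sum_const]
      refine Finset.sum_le_sum fun U hU => ?_
      have h1 := (Finset.mem_filter.1 hU).2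
      have h2 : F * z + z ≤ r' * z := by
        rw [← Nat.succ_mul]
        exact Nat.mul_le_mul_right _ hFr'
      omega
    have hsum' : (B.card : ℤ) * ((F : ℤ) * z) ≤ (Nat.card G : ℤ) := by exact_mod_cast hsum
    nlinarith [mul_pos (Int.natCast_pos.2 hF0) (Int.natCast_pos.2 hz0)]

end Cfsg.Agent.Lib.BrauerFeit.Count
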