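import Cfsg.Agent.Lib.BrauerFeit.Basic

set_option autoImplicit false

/-!
Finite abelian linear groups of order prime to the characteristic: common eigenspaces,
a bound on the torsion and on the automizer.
-/

open Subgroup Module Module.End Cfsg.Agent.Lib.BrauerFeit.Basic

namespace Cfsg.Agent.Lib.BrauerFeit.Weights

variable {G K V : Type*} [Group G] [Finite G] [Field K] [IsAlgClosed K] [AddCommGroup V]
  [Module K V] [FiniteDimensional K V] (ρ : G →* Module.End K V) (A : Subgroup G)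

/-- The common eigenspace for `χ`. -/
def wt (χ : ↥A → K) : Submodule K V := ⨅ a : ↥A, (ρ a).eigenspace (χ a)

theorem isSemisimple_of_orderOf (a : G) (ha : (orderOf a : K) ≠ 0) : (ρ a).IsSemisimple := by
  apply Module.End.isSemisimple_of_squarefree_aeval_eq_zero
    (p := (Polynomial.X ^ orderOf a - Polynomial.C 1 : Polynomial K))
  · exact (Polynomial.separable_X_pow_sub_C 1 ha one_ne_zero).squarefree
  · rw [map_sub, map_pow, Polynomial.aeval_X, Polynomial.aeval_C, map_one, ← map_pow,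
      pow_orderOf_eq_one, map_one, sub_self]

variable {ρ A}

theorem mem_wt {χ : ↥A → K} {v : V} : v ∈ wt ρ A χ ↔ ∀ a : ↥A, ρ a v = χ a • v := by
  simp [wt, Submodule.mem_iInf]

theorem maxGen_eq (hord : ∀ a ∈ A, (orderOf a : K) ≠ 0) (a : ↥A) (μ : K) :
    (ρ a).maxGenEigenspace μ = (ρ a).eigenspace μ :=
  (isFinitelySemisimple_iff_isSemisimple.2
    (isSemisimple_of_orderOf ρ a (hord a a.2))).maxGenEigenspace_eq_eigenspace μ

theorem iSupIndep_wt (hcomm : ∀ a ∈ A, ∀ b ∈ A, a * b = b * a)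
    (hord : ∀ a ∈ A, (orderOf a : K) ≠ 0) : iSupIndep (wt ρ A) := by
  have h := independent_iInf_maxGenEigenspace_of_forall_mapsTo (fun a : ↥A => ρ a)
    (fun i j φ => Module.End.mapsTo_maxGenEigenspace_of_comm
      ((show Commute (j : G) i from hcomm j j.2 i i.2).map ρ) φ)
  simp only [maxGen_eq hord] at h
  exact h

theorem iSup_wt (hcomm : ∀ a ∈ A, ∀ b ∈ A, a * b = b * a)
    (hord : ∀ a ∈ A, (orderOf a : K) ≠ 0) : ⨆ χ, wt ρ A χ = ⊤ := by
  have h := iSup_iInf_maxGenEigenspace_eq_top_of_iSup_maxGenEigenspace_eq_top_of_commute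
    (fun a : ↥A => ρ a)
    (fun i j _ => (show Commute (i : G) j from hcomm i i.2 j j.2).map ρ)
    (fun i => iSup_maxGenEigenspace_eq_top _)
  simp only [maxGen_eq hord] at h
  exact h

theorem ext_of_wt (hcomm : ∀ a ∈ A, ∀ b ∈ A, a * b = b * a)
    (hord : ∀ a ∈ A, (orderOf a : K) ≠ 0) {e e' : Module.End K V}
    (h : ∀ χ : {χ // wt ρ A χ ≠ ⊥}, ∀ v ∈ wt ρ A χ.1, e v = e' v) : e = e' := by
  have htop : LinearMap.eqLocus e e' = ⊤ := by
    rw [eq_top_iff, ← iSup_wt hcomm hord]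
    refine iSup_le fun χ v hv => ?_
    by_cases hχ : wt ρ A χ = ⊥
    · rw [hχ, Submodule.mem_bot] at hv
      simp [hv]
    · exact h ⟨χ, hχ⟩ v hv
  exact LinearMap.ext fun v => LinearMap.mem_eqLocus.1 (htop.ge Submodule.mem_top)

theorem exists_weights (hcomm : ∀ a ∈ A, ∀ b ∈ A, a * b = b * a)
    (hord : ∀ a ∈ A, (orderOf a : K) ≠ 0) {n : ℕ} (hn : finrank K V ≤ n) :
    Finite {χ // wt ρ A χ ≠ ⊥} ∧ Nat.card {χ // wt ρ A χ ≠ ⊥} ≤ n := by
  have hi := iSupIndep_wt (ρ := ρ) hcomm hord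
  let := hi.fintypeNeBotOfFiniteDimensional
  exact ⟨inferInstance, by
    rw [Nat.card_eq_fintype_card]
    exact hi.subtype_ne_bot_le_finrank.trans hn⟩

theorem card_le_torsion (hρ : Function.Injective ρ) (hcomm : ∀ a ∈ A, ∀ b ∈ A, a * b = b * a)
    (hord : ∀ a ∈ A, (orderOf a : K) ≠ 0) {n : ℕ} (hn : finrank K V ≤ n)
    {Z : Subgroup G} {k : ℕ} (hk : 0 < k) :
    Nat.card ↥A ≤ k ^ n * Nat.card ↥(pw Z k A) := by
  classical
  obtain ⟨hfin, hcard⟩ := exists_weights (ρ := ρ) hcomm hord hn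
  have := Fintype.ofFinite {χ // wt ρ A χ ≠ ⊥}
  let φ : ↥A →* G :=
    { toFun := fun a => (a : G) ^ k
      map_one' := by simp
      map_mul' := fun a b => by
        rw [Subgroup.coe_mul, Commute.mul_pow (hcomm a a.2 b b.2)] }
  have hrange : φ.range ≤ pw Z k A := by
    rintro x ⟨a, rfl⟩
    exact pow_mem_pw Z k a.2
  have hroot : ∀ (a : ↥φ.ker) (χ : {χ // wt ρ A χ ≠ ⊥}),
      χ.1 a.1 ∈ (Polynomial.nthRootsFinset k (1 : K)) := by
    intro a χ
    rw [Polynomial.mem_nthRootsFinset hk]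
    obtain ⟨v, hv, hv0⟩ := (Submodule.ne_bot_iff _).1 χ.2
    have hpow : ∀ i : ℕ, (ρ (a.1 : G) ^ i) v = χ.1 a.1 ^ i • v := by
      intro i
      induction i with
      | zero => simp
      | succ i ih =>
        rw [pow_succ, Module.End.mul_apply, mem_wt.1 hv a.1, map_smul, ih, smul_smul, pow_succ']
    have h1 := hpow k
    rw [← map_pow, show (a.1 : G) ^ k = 1 from MonoidHom.mem_ker.1 a.2, map_one,
      Module.End.one_apply] at h1
    have h2 : (χ.1 a.1 ^ k - 1) • v = 0 := by rw [sub_smul, ← h1, one_smul, sub_self]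
    exact sub_eq_zero.1 ((smul_eq_zero.1 h2).resolve_right hv0)
  have hker : Nat.card ↥φ.ker ≤ k ^ n := by
    refine (Nat.card_le_card_of_injective
      (fun a (χ : {χ // wt ρ A χ ≠ ⊥}) => (⟨χ.1 a.1, hroot a χ⟩ :
        ↥(Polynomial.nthRootsFinset k (1 : K)))) ?_).trans ?_
    · intro a b hab
      have he : ρ (a.1 : G) = ρ (b.1 : G) := ext_of_wt (ρ := ρ) hcomm hord fun χ v hv => by
        rw [mem_wt.1 hv a.1, mem_wt.1 hv b.1, show χ.1 a.1 = χ.1 b.1 from
          congrArg Subtype.val (congrFun hab χ)]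
      exact Subtype.ext (Subtype.ext (hρ he))
    · rw [Nat.card_fun, Nat.card_eq_finsetCard]
      refine (Nat.pow_le_pow_left ?_ _).trans (Nat.pow_le_pow_right hk hcard)
      rw [Polynomial.nthRootsFinset_def]
      exact (Multiset.toFinset_card_le _).trans (Polynomial.card_nthRoots k 1)
  calc Nat.card ↥A = Nat.card ↥φ.ker * Nat.card ↥φ.range := by
        rw [← Subgroup.index_ker, φ.ker.card_mul_index]
    _ ≤ _ := Nat.mul_le_mul hker (Subgroup.card_le_of_le hrange)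

theorem card_normalizer_le (hρ : Function.Injective ρ) (hcomm : ∀ a ∈ A, ∀ b ∈ A, a * b = b * a)
    (hord : ∀ a ∈ A, (orderOf a : K) ≠ 0) {n : ℕ} (hn : finrank K V ≤ n) :
    Nat.card ↥(Subgroup.normalizer (A : Set G)) ≤
      Nat.factorial n * Nat.card ↥(centralizer (A : Set G)) := by
  classical
  obtain ⟨hfin, hcard⟩ := exists_weights (ρ := ρ) hcomm hord hn
  set N := Subgroup.normalizer (A : Set G) with hN
  have hmem : ∀ (g : ↥N) (a : ↥A), (g : G)⁻¹ * a * g ∈ A := fun g a => by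
    have := (Subgroup.mem_normalizer_iff.1 (inv_mem g.2) a).1 a.2
    simpa using this
  let tw : ↥N → (↥A → K) → (↥A → K) := fun g χ a => χ ⟨_, hmem g a⟩
  have hmap : ∀ (g : ↥N) (χ : ↥A → K) (v : V), v ∈ wt ρ A χ →
      ρ (g : G) v ∈ wt ρ A (tw g χ) := by
    intro g χ v hv
    rw [mem_wt] at hv ⊢
    intro a
    rw [← Module.End.mul_apply, ← map_mul,
      show (a : G) * g = g * ((g : G)⁻¹ * a * g) by group, map_mul, Module.End.mul_apply,
      show ρ ((g : G)⁻¹ * a * g) v = χ ⟨_, hmem g a⟩ • v from hv ⟨_, hmem g a⟩, map_smul]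
  have hne : ∀ (g : ↥N) (χ : {χ // wt ρ A χ ≠ ⊥}), wt ρ A (tw g χ.1) ≠ ⊥ := by
    intro g χ
    obtain ⟨v, hv, hv0⟩ := (Submodule.ne_bot_iff _).1 χ.2
    refine (Submodule.ne_bot_iff _).2 ⟨_, hmap g _ v hv, fun hc => hv0 ?_⟩
    have h1 : ρ ((g : G)⁻¹) (ρ (g : G) v) = v := by
      rw [← Module.End.mul_apply, ← map_mul, inv_mul_cancel, map_one, Module.End.one_apply]
    rw [← h1, hc, map_zero]
  let _ : MulAction ↥N {χ // wt ρ A χ ≠ ⊥} :=
    { smul := fun g χ => ⟨tw g χ.1, hne g χ⟩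
      one_smul := fun χ => Subtype.ext (funext fun a =>
        congrArg χ.1 (Subtype.ext (show ((1 : ↥N) : G)⁻¹ * a * (1 : ↥N) = a by simp)))
      mul_smul := fun g h χ => Subtype.ext (funext fun a =>
        congrArg χ.1 (Subtype.ext (show ((g * h : ↥N) : G)⁻¹ * a * (g * h : ↥N) =
          (h : G)⁻¹ * ((g : G)⁻¹ * a * g) * h by simp [mul_assoc]))) }
  set φ := MulAction.toPermHom ↥N {χ // wt ρ A χ ≠ ⊥} with hφ
  have hker : φ.ker.map N.subtype ≤ centralizer (A : Set G) := by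
    rintro _ ⟨g, hg, rfl⟩
    rw [mem_centralizer_iff]
    intro a ha
    refine hρ (ext_of_wt (ρ := ρ) hcomm hord fun χ v hv => ?_)
    have hfix : g • χ = χ := Equiv.ext_iff.1 (MonoidHom.mem_ker.1 hg) χ
    have hfix' : tw g χ.1 = χ.1 := congrArg Subtype.val hfix
    rw [map_mul, map_mul, Module.End.mul_apply, Module.End.mul_apply]
    have h2 := mem_wt.1 (hmap g χ.1 v hv) ⟨a, ha⟩
    rw [hfix'] at h2
    rw [Subgroup.coe_subtype, h2, mem_wt.1 hv ⟨a, ha⟩, map_smul]
  have := Fintype.ofFinite {χ // wt ρ A χ ≠ ⊥}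
  have hidx : φ.ker.index ≤ Nat.factorial n := by
    rw [Subgroup.index_ker]
    refine le_trans (Subgroup.card_le_card_group _) ?_
    · rw [Nat.card_perm]
      exact Nat.factorial_le hcard
  calc Nat.card ↥N = φ.ker.index * Nat.card ↥φ.ker := by
        rw [mul_comm, φ.ker.card_mul_index]
    _ ≤ Nat.factorial n * Nat.card ↥φ.ker := Nat.mul_le_mul_right _ hidx
    _ ≤ _ := Nat.mul_le_mul_left _ (by
        rw [← Subgroup.card_map_of_injective N.subtype_injective]
        exact Subgroup.card_le_of_le hker)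

end Cfsg.Agent.Lib.BrauerFeit.Weights
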