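import Cfsg.Agent.Lib.BrauerFeit.Tori
import Cfsg.Agent.Lib.BrauerFeit.Weights

set_option autoImplicit false

/-!
The Brauer–Feit theorem: a finite linear group in characteristic `p` whose Sylow `p`-order is
bounded has an abelian subgroup of bounded index.
-/

universe u v

open Subgroup Module Cfsg.Agent.Lib.BrauerFeit.Basic

namespace Cfsg.Agent.Lib.BrauerFeit.Linear

variable {p : ℕ} [hp : Fact p.Prime]

theorem pow_char_eq_one {R : Type*} [Ring R] (hpR : ∀ x : R, p • x = 0) {g : R}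
    (he : (g - 1) * (g - 1) = 0) : g ^ p = 1 := by
  have key : ∀ i : ℕ, g ^ i = 1 + i • (g - 1) := by
    intro i
    induction i with
    | zero => simp
    | succ i ih =>
      rw [pow_succ, ih, add_mul, one_mul, smul_mul_assoc, succ_nsmul]
      have : (g - 1) * g = g - 1 := by
        have h2 := he
        rw [mul_sub, mul_one, sub_eq_zero] at h2
        exact h2
      rw [this]
      abel
  rw [key, hpR, add_zero]

theorem card_le_of_isPGroup {H : Type*} [Group H] [Finite H] (h : IsPGroup p H) {g B : ℕ}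
    (hg : g ≠ 0) (hdvd : Nat.card H ∣ g) (hB : p ^ g.factorization p ≤ B) : Nat.card H ≤ B := by
  obtain ⟨j, hj⟩ := IsPGroup.iff_card.1 h
  rw [hj] at hdvd ⊢
  exact (Nat.pow_le_pow_right hp.out.pos
    ((hp.out.pow_dvd_iff_le_factorization hg).1 hdvd)).trans hB

variable {K V : Type*} [Field K] [CharP K p] [AddCommGroup V] [Module K V]

omit hp in
theorem nsmul_end_eq_zero (x : Module.End K V) : p • x = 0 := by
  rw [← Nat.cast_smul_eq_nsmul K, CharP.cast_eq_zero, zero_smul]

/-- A group with two representations of smaller degree whose joint kernel acts unipotently has a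
big abelian `p'`-subgroup. -/
theorem exists_abelian_of_pair {H M₁ M₂ : Type*} [Group H] [Finite H] [Monoid M₁] [Monoid M₂]
    (σ₁ : H →* M₁) (σ₂ : H →* M₂) (hker : ∀ k : H, σ₁ k = 1 → σ₂ k = 1 → k ^ p = 1)
    {J B : ℕ} (hB : p ^ (Nat.card H).factorization p ≤ B)
    (h₁ : ∃ A : Subgroup H, (∀ a ∈ A, ∀ b ∈ A, σ₁ (a * b) = σ₁ (b * a)) ∧
      Nat.card H ≤ J * Nat.card ↥A)
    (h₂ : ∃ A : Subgroup H, (∀ a ∈ A, ∀ b ∈ A, σ₂ (a * b) = σ₂ (b * a)) ∧
      Nat.card H ≤ J * Nat.card ↥A) :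
    ∃ A : Subgroup H, (∀ a ∈ A, ∀ b ∈ A, a * b = b * a) ∧ (∀ a ∈ A, ¬ p ∣ orderOf a) ∧
      Nat.card H ≤ J * J * (Nat.factorial B * B) * Nat.card ↥A := by
  classical
  obtain ⟨A₁, hA₁, hA₁c⟩ := h₁
  obtain ⟨A₂, hA₂, hA₂c⟩ := h₂
  set A₀ := A₁ ⊓ A₂ with hA₀
  have hA₀c : Nat.card H ≤ J * J * Nat.card ↥A₀ := by
    have : Nat.card ↥A₁ ≤ J * Nat.card ↥A₀ :=
      card_le_mul_inf (H := ⊤) le_top le_top (by rwa [Subgroup.card_top])
    calc _ ≤ J * Nat.card ↥A₁ := hA₁c
      _ ≤ J * (J * Nat.card ↥A₀) := Nat.mul_le_mul_left _ this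
      _ = _ := (mul_assoc _ _ _).symm
  set k : Subgroup H := σ₁.ker ⊓ σ₂.ker with hk
  have hkn : k.Normal := inferInstance
  have hkp : IsPGroup p ↥k := fun x =>
    ⟨1, Subtype.ext (by simpa using hker x.1 (MonoidHom.mem_ker.1 x.2.1) (MonoidHom.mem_ker.1 x.2.2))⟩
  have hkcard : Nat.card ↥k ≤ B :=
    card_le_of_isPGroup hkp Nat.card_pos.ne' (Subgroup.card_subgroup_dvd_card k) hB
  have hcommk : ∀ a ∈ A₀, ∀ b ∈ A₀, a * b * a⁻¹ * b⁻¹ ∈ k := by
    intro a ha b hb
    refine Subgroup.mem_inf.2 ⟨MonoidHom.mem_ker.2 ?_, MonoidHom.mem_ker.2 ?_⟩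
    · rw [mul_assoc, map_mul, hA₁ a ha.1 b hb.1, ← map_mul]
      simp [mul_assoc]
    · rw [mul_assoc, map_mul, hA₂ a ha.2 b hb.2, ← map_mul]
      simp [mul_assoc]
  set ψ : ↥A₀ →* MulAut ↥k := (MulAut.conjNormal (G := H) (H := k)).comp A₀.subtype with hψ
  set A' : Subgroup H := ψ.ker.map A₀.subtype with hA'
  have hA'le : A' ≤ A₀ := Subgroup.map_subtype_le _
  have hA'cent : ∀ a ∈ A', ∀ x ∈ k, a * x = x * a := by
    rintro _ ⟨a, ha, rfl⟩ x hx
    have h1 : MulAut.conjNormal (a : H) (⟨x, hx⟩ : ↥k) = ⟨x, hx⟩ := by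
      have := MonoidHom.mem_ker.1 ha
      exact DFunLike.congr_fun this _
    have h2 := congrArg Subtype.val h1
    rw [MulAut.conjNormal_apply] at h2
    exact mul_inv_eq_iff_eq_mul.1 h2
  have hA'c : Nat.card ↥A₀ ≤ Nat.factorial B * Nat.card ↥A' := by
    rw [Subgroup.card_map_of_injective A₀.subtype_injective, ← ψ.ker.card_mul_index, mul_comm]
    refine Nat.mul_le_mul_right _ ?_
    rw [Subgroup.index_ker]
    refine le_trans (Subgroup.card_le_card_group _) ?_
    refine (Nat.card_le_card_of_injective (fun e : MulAut ↥k => e.toEquiv)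
      (fun e e' h => MulEquiv.toEquiv_injective h)).trans ?_
    rw [Nat.card_perm]
    exact Nat.factorial_le hkcard
  have hcomm : ∀ a ∈ A', ∀ b ∈ A', ¬ p ∣ orderOf a → a * b = b * a := by
    intro a ha b hb hap
    set c := a * b * a⁻¹ * b⁻¹ with hc
    have hck : c ∈ k := hcommk a (hA'le ha) b (hA'le hb)
    have hac : a * c = c * a := hA'cent a ha c hck
    have hiter : ∀ i : ℕ, a ^ i * b * (a ^ i)⁻¹ = c ^ i * b := by
      intro i
      induction i with
      | zero => simp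
      | succ i ih =>
        calc a ^ (i + 1) * b * (a ^ (i + 1))⁻¹ = a * (a ^ i * b * (a ^ i)⁻¹) * a⁻¹ := by
              rw [pow_succ']; group
          _ = a * (c ^ i * b) * a⁻¹ := by rw [ih]
          _ = c ^ i * (a * b * a⁻¹) := by
              rw [← mul_assoc a, (Commute.pow_right hac i).eq]
              simp [mul_assoc]
          _ = c ^ (i + 1) * b := by rw [pow_succ, hc]; group
    have h1 : c ^ orderOf a = 1 := by
      have := hiter (orderOf a)
      rw [pow_orderOf_eq_one] at this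
      simpa using this.symm
    have h2 : c ^ p = 1 :=
      hker c (MonoidHom.mem_ker.1 hck.1) (MonoidHom.mem_ker.1 hck.2)
    have hgcd : Nat.gcd p (orderOf a) = 1 := (hp.out.coprime_iff_not_dvd.2 hap)
    have h3 : c ^ Nat.gcd p (orderOf a) = 1 := pow_gcd_eq_one.2 ⟨h2, h1⟩
    rw [hgcd, pow_one, hc, mul_inv_eq_one, mul_inv_eq_iff_eq_mul] at h3
    exact h3
  let Q : Subgroup H :=
    { carrier := {a | a ∈ A' ∧ ¬ p ∣ orderOf a}
      one_mem' := ⟨one_mem _, by simp [hp.out.ne_one]⟩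
      mul_mem' := fun {a b} ha hb => ⟨mul_mem ha.1 hb.1, fun hd => by
        have h1 := hd.trans ((Commute.orderOf_mul_dvd_lcm
          (hcomm a ha.1 b hb.1 ha.2)).trans (Nat.lcm_dvd_mul _ _))
        exact (hp.out.dvd_mul.1 h1).elim ha.2 hb.2⟩
      inv_mem' := fun {a} ha => ⟨inv_mem ha.1, by rw [orderOf_inv]; exact ha.2⟩ }
  have hQA : Q ≤ A' := fun a ha => ha.1
  refine ⟨Q, fun a ha b hb => hcomm a ha.1 b hb.1 ha.2, fun a ha => ha.2, ?_⟩
  have hQn : (Q.subgroupOf A').Normal := ⟨fun q hq g => by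
    rw [Subgroup.mem_subgroupOf] at hq ⊢
    refine ⟨(g * q * g⁻¹).2, ?_⟩
    have : orderOf ((g * q * g⁻¹ : ↥A') : H) = orderOf (q : H) := by
      have := MulEquiv.orderOf_eq (MulAut.conj (g : H)) (q : H)
      simpa using this
    rw [this]
    exact hq.2⟩
  have hQc : Nat.card ↥A' ≤ B * Nat.card ↥Q := by
    rw [(Q.subgroupOf A').card_eq_card_quotient_mul_card_subgroup,
      Nat.card_congr (Subgroup.subgroupOfEquivOfLe hQA).toEquiv]
    refine Nat.mul_le_mul_right _ (card_le_of_isPGroup ?_ Nat.card_pos.ne'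
      ((Subgroup.card_quotient_dvd_card _).trans (Subgroup.card_subgroup_dvd_card A')) hB)
    intro x
    induction x using QuotientGroup.induction_on with
    | H a =>
      refine ⟨(Nat.card H).factorization p, ?_⟩
      rw [← QuotientGroup.mk_pow, QuotientGroup.eq_one_iff, Subgroup.mem_subgroupOf]
      refine ⟨(a ^ _).2, fun hd => ?_⟩
      have h1 : ((a : H) ^ p ^ (Nat.card H).factorization p) ^
          (Nat.card H / p ^ (Nat.card H).factorization p) = 1 := by
        rw [← pow_mul, Nat.ordProj_mul_ordCompl_eq_self, pow_card_eq_one']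
      rw [SubgroupClass.coe_pow] at hd
      exact Nat.not_dvd_ordCompl hp.out Nat.card_pos.ne'
        (hd.trans (orderOf_dvd_of_pow_eq_one h1))
  calc _ ≤ J * J * Nat.card ↥A₀ := hA₀c
    _ ≤ J * J * (Nat.factorial B * (B * Nat.card ↥Q)) :=
        Nat.mul_le_mul_left _ (hA'c.trans (Nat.mul_le_mul_left _ hQc))
    _ = _ := by ring

variable {G : Type u} [Group G] [Finite G] (ρ : G →* Module.End K V)

/-- The elements acting as scalars. -/
def scalars : Subgroup G where
  carrier := {g | ∃ c : K, ρ g = c • 1}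
  one_mem' := ⟨1, by simp⟩
  mul_mem' := by
    rintro a b ⟨c, hc⟩ ⟨d, hd⟩
    exact ⟨c * d, by rw [map_mul, hc, hd, smul_mul_smul_comm, one_mul]⟩
  inv_mem' := by
    rintro a ⟨c, hc⟩
    have h1 : ρ a * ρ a⁻¹ = 1 := by rw [← map_mul, mul_inv_cancel, map_one]
    rw [hc, smul_one_mul] at h1
    rcases eq_or_ne c 0 with rfl | hc0
    · refine ⟨0, ?_⟩
      rw [zero_smul] at h1 ⊢
      exact (eq_zero_of_zero_eq_one h1 _)
    · exact ⟨c⁻¹, by rw [← h1, smul_smul, inv_mul_cancel₀ hc0, one_smul]⟩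

variable {ρ}

omit [CharP K p] in
theorem scalars_le_center (hρ : Function.Injective ρ) : scalars ρ ≤ Subgroup.center G := by
  rintro a ⟨c, hc⟩
  rw [Subgroup.mem_center_iff]
  intro g
  apply hρ
  rw [map_mul, map_mul, hc, mul_smul_one, smul_one_mul]

theorem scalars_order (hρ : Function.Injective ρ) {a : G} (ha : a ∈ scalars ρ) :
    ¬ p ∣ orderOf a := by
  intro hd
  obtain ⟨j, hj⟩ := hd
  have hmem : a ^ j ∈ scalars ρ := pow_mem ha j
  have hord : (a ^ j) ^ p = 1 := by rw [← pow_mul, mul_comm, ← hj, pow_orderOf_eq_one]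
  obtain ⟨c, hc⟩ := hmem
  have h2 : a ^ j = 1 := by
    apply hρ
    have h1 : (c • (1 : Module.End K V)) ^ p = 1 := by rw [← hc, ← map_pow, hord, map_one]
    rw [smul_pow, one_pow] at h1
    rcases subsingleton_or_nontrivial (Module.End K V) with hs | hs
    · exact Subsingleton.elim _ _
    · have h3 : (c - 1) ^ p = 0 := by
        rw [sub_pow_char, one_pow]
        have : (c ^ p - 1) • (1 : Module.End K V) = 0 := by rw [sub_smul, h1, one_smul, sub_self]
        exact (smul_eq_zero.1 this).resolve_right one_ne_zero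
      rw [hc, sub_eq_zero.1 (pow_eq_zero_iff hp.out.ne_zero |>.1 h3), one_smul, map_one]
  have h4 : orderOf a ∣ j := orderOf_dvd_of_pow_eq_one h2
  have hpos : 0 < orderOf a := orderOf_pos a
  rw [hj] at h4 hpos
  have hj0 : 0 < j := Nat.pos_of_mul_pos_left hpos
  have := Nat.le_of_dvd hj0 h4
  nlinarith [hp.out.two_le]

omit [CharP K p] in
theorem twist_le [FiniteDimensional K V] (hρ : Function.Injective ρ) {n : ℕ} (hn : 1 ≤ n)
    (hdim : finrank K V ≤ n) (x : G) :
    Nat.card {y : G // y * x * y⁻¹ * x⁻¹ ∈ scalars ρ} ≤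
      n * Nat.card ↥(centralizer ({x} : Set G)) := by
  classical
  rcases Nat.eq_zero_or_pos (finrank K V) with h0 | h0
  · have : Subsingleton V := finrank_zero_iff.1 h0
    have : Subsingleton G := ⟨fun a b => hρ (Subsingleton.elim _ _)⟩
    calc Nat.card {y : G // y * x * y⁻¹ * x⁻¹ ∈ scalars ρ} ≤ 1 :=
          Finite.card_le_one_iff_subsingleton.2 inferInstance
      _ ≤ _ := Nat.mul_pos hn Nat.card_pos
  set S := {y : G // y * x * y⁻¹ * x⁻¹ ∈ scalars ρ} with hS
  have hc : ∀ y : S, ∃ c : K, c ∈ Polynomial.nthRootsFinset (finrank K V) (1 : K) ∧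
      ρ (y.1 * x * y.1⁻¹ * x⁻¹) = c • 1 := by
    rintro ⟨y, c, hc⟩
    refine ⟨c, ?_, hc⟩
    rw [Polynomial.mem_nthRootsFinset h0]
    have hdet := congrArg LinearMap.det hc
    rw [Module.End.one_eq_id, LinearMap.det_smul, LinearMap.det_id, mul_one] at hdet
    rw [← hdet, map_mul ρ, map_mul ρ, map_mul ρ, map_mul, map_mul, map_mul]
    have hinv : ∀ g : G, LinearMap.det (ρ g) * LinearMap.det (ρ g⁻¹) = 1 := fun g => by
      rw [← map_mul, ← map_mul, mul_inv_cancel, map_one, map_one]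
    calc LinearMap.det (ρ y) * LinearMap.det (ρ x) * LinearMap.det (ρ y⁻¹) * LinearMap.det (ρ x⁻¹)
        = (LinearMap.det (ρ y) * LinearMap.det (ρ y⁻¹)) *
          (LinearMap.det (ρ x) * LinearMap.det (ρ x⁻¹)) := by ring
      _ = 1 := by rw [hinv, hinv, one_mul]
  choose c hcroot hceq using hc
  have : Nonempty S := ⟨⟨1, by simp [one_mem]⟩⟩
  let rep : S → G := fun y => (Function.invFun c (c y) : S).1
  refine (Nat.card_le_card_of_injective (fun y : S =>
    ((⟨c y, hcroot y⟩ : ↥(Polynomial.nthRootsFinset (finrank K V) (1 : K))),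
      (⟨(rep y)⁻¹ * y.1, ?_⟩ : ↥(centralizer ({x} : Set G))))) ?_).trans ?_
  · have hcy : c (Function.invFun c (c y)) = c y := Function.invFun_eq ⟨y, rfl⟩
    have he : rep y * x * (rep y)⁻¹ * x⁻¹ = y.1 * x * y.1⁻¹ * x⁻¹ :=
      hρ (by rw [hceq y, hceq, hcy])
    rw [mem_centralizer_singleton_iff]
    have h2 : rep y * x * (rep y)⁻¹ = y.1 * x * y.1⁻¹ := mul_right_cancel he
    calc (rep y)⁻¹ * y.1 * x = (rep y)⁻¹ * (y.1 * x * y.1⁻¹) * y.1 := by group
      _ = (rep y)⁻¹ * (rep y * x * (rep y)⁻¹) * y.1 := by rw [h2]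
      _ = x * ((rep y)⁻¹ * y.1) := by group
  · intro y y' h
    simp only [Prod.mk.injEq, Subtype.mk.injEq] at h
    have hr : rep y = rep y' := by simp only [rep, h.1]
    rw [hr, mul_right_inj] at h
    exact Subtype.ext h.2
  · rw [Nat.card_prod, Nat.card_eq_finsetCard, Polynomial.nthRootsFinset_def]
    exact Nat.mul_le_mul_right _
      (((Multiset.toFinset_card_le _).trans (Polynomial.card_nthRoots _ _)).trans hdim)

omit [CharP K p] in
theorem chain [FiniteDimensional K V] (hρ : Function.Injective ρ) {n : ℕ} (hdim : finrank K V ≤ n)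
    (f : ℕ → Subgroup G) (hf : Antitone f) :
    ∃ i ≤ n * n, centralizer (f i : Set G) = centralizer (f (i + 1) : Set G) := by
  let M : ℕ → Submodule K (Module.End K V) := fun i =>
    ⨅ a : ↥(f i), LinearMap.ker (LinearMap.mulLeft K (ρ a) - LinearMap.mulRight K (ρ a))
  have hM : Monotone M := monotone_nat_of_le_succ fun i x hx => by
    simp only [M, Submodule.mem_iInf] at hx ⊢
    exact fun a => hx ⟨a.1, hf (Nat.le_succ i) a.2⟩
  have hmem : ∀ i (g : G), g ∈ centralizer (f i : Set G) ↔ ρ g ∈ M i := by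
    intro i g
    simp only [M, Submodule.mem_iInf, mem_centralizer_iff, LinearMap.mem_ker, LinearMap.sub_apply,
      LinearMap.mulLeft_apply, LinearMap.mulRight_apply, sub_eq_zero, ← map_mul]
    exact ⟨fun h a => by rw [h a.1 a.2], fun h a ha => hρ (h ⟨a, ha⟩)⟩
  by_contra hc
  push Not at hc
  have hgrow : ∀ i ≤ n * n + 1, i ≤ finrank K ↥(M i) := by
    intro i hi
    induction i with
    | zero => exact Nat.zero_le _
    | succ i ih =>
      have hlt : M i < M (i + 1) := lt_of_le_of_ne (hM (Nat.le_succ i)) fun e =>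
        hc i (by omega) (Subgroup.ext fun g => by rw [hmem, hmem, e])
      have := Submodule.finrank_lt_finrank_of_lt hlt
      have := ih (by omega)
      omega
  have h1 := hgrow (n * n + 1) le_rfl
  have h2 := Submodule.finrank_le (M (n * n + 1))
  rw [Module.finrank_linearMap] at h2
  nlinarith

end Cfsg.Agent.Lib.BrauerFeit.Linear
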