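import Cfsg.Agent.Lib.BrauerFeit.Linear

set_option autoImplicit false

/-!
Induction on the degree for the Brauer–Feit theorem.
-/

universe u v

open Subgroup Module
open Cfsg.Agent.Lib.BrauerFeit.Basic Cfsg.Agent.Lib.BrauerFeit.Linear
open scoped Pointwise

namespace Cfsg.Agent.Lib.BrauerFeit.Main

variable {p : ℕ} [hp : Fact p.Prime]

/-- `J` bounds the index of an abelian subgroup in degree at most `n`. -/
def Bound (p B n J : ℕ) : Prop :=
  ∀ (K : Type v) [Field K] [IsAlgClosed K] [CharP K p] (V : Type v) [AddCommGroup V] [Module K V]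
    [FiniteDimensional K V], finrank K V ≤ n → ∀ (G : Type u) [Group G] [Finite G]
    (ρ : G →* Module.End K V), Function.Injective ρ → p ^ (Nat.card G).factorization p ≤ B →
    ∃ A : Subgroup G, (∀ a ∈ A, ∀ b ∈ A, a * b = b * a) ∧ Nat.card G ≤ J * Nat.card ↥A

theorem sylowBound_of_dvd {a b B : ℕ} (hab : a ∣ b) (hb : b ≠ 0)
    (h : p ^ b.factorization p ≤ B) : p ^ a.factorization p ≤ B := by
  refine le_trans (Nat.pow_le_pow_right hp.out.pos ?_) h
  exact (Nat.factorization_le_iff_dvd (ne_zero_of_dvd_ne_zero hb hab) hb).2 hab p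

variable {K : Type v} [Field K] [IsAlgClosed K] [CharP K p]

/-- Pulling an abelian subgroup of a (non-faithful) image back. -/
theorem exists_of_image {B n J : ℕ} (hJ : Bound.{u, v} p B n J) {W : Type v} [AddCommGroup W]
    [Module K W] [FiniteDimensional K W] (hW : finrank K W ≤ n) {H : Type u} [Group H] [Finite H]
    (σ : H →* Module.End K W) (hB : p ^ (Nat.card H).factorization p ≤ B) :
    ∃ A : Subgroup H, (∀ a ∈ A, ∀ b ∈ A, σ (a * b) = σ (b * a)) ∧
      Nat.card H ≤ J * Nat.card ↥A := by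
  let τ : H ⧸ σ.ker →* Module.End K W := QuotientGroup.lift σ.ker σ le_rfl
  have hτ : Function.Injective τ := by
    intro x y
    induction x using QuotientGroup.induction_on with
    | H a =>
      induction y using QuotientGroup.induction_on with
      | H b =>
        intro h
        simp only [τ, QuotientGroup.lift_mk] at h
        rw [QuotientGroup.eq, MonoidHom.mem_ker, map_mul, ← h, ← map_mul, inv_mul_cancel, map_one]
  obtain ⟨A, hA, hAc⟩ := hJ K W hW (H ⧸ σ.ker) τ hτ
    (sylowBound_of_dvd (Subgroup.card_quotient_dvd_card _) Nat.card_pos.ne' hB)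
  refine ⟨A.comap (QuotientGroup.mk' σ.ker), fun a ha b hb => ?_, ?_⟩
  · have := congrArg τ (hA _ ha _ hb)
    simpa [τ, ← QuotientGroup.mk_mul] using this
  · have h1 := (A.comap (QuotientGroup.mk' σ.ker)).card_mul_index
    rw [A.index_comap_of_surjective (QuotientGroup.mk'_surjective _)] at h1
    have hidx : A.index ≤ J := by
      rw [← A.card_mul_index, mul_comm J] at hAc
      exact Nat.le_of_mul_le_mul_left hAc Nat.card_pos
    rw [← h1, mul_comm]
    exact Nat.mul_le_mul_right _ hidx

/-- Centralisers of non-scalar elements have big abelian `p'`-subgroups. -/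
theorem exists_cent {B n J : ℕ} (hJ : Bound.{u, v} p B n J) {V : Type v} [AddCommGroup V]
    [Module K V] [FiniteDimensional K V] (hV : finrank K V ≤ n + 1) {G : Type u} [Group G]
    [Finite G] {ρ : G →* Module.End K V} (hρ : Function.Injective ρ)
    (hB : p ^ (Nat.card G).factorization p ≤ B) {x : G} (hx : x ∉ scalars ρ) :
    ∃ A : Subgroup G, ((∀ a ∈ A, ∀ b ∈ A, a * b = b * a) ∧ scalars ρ ≤ A ∧
      ∀ a ∈ A, ¬ p ∣ orderOf a) ∧ A ≤ centralizer ({x} : Set G) ∧
      Nat.card ↥(centralizer ({x} : Set G)) ≤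
        J * J * (Nat.factorial B * B) * Nat.card ↥A := by
  have : Nontrivial V := by
    by_contra hc
    rw [not_nontrivial_iff_subsingleton] at hc
    exact hx ⟨1, Subsingleton.elim _ _⟩
  obtain ⟨μ, hμ⟩ := Module.End.exists_eigenvalue (ρ x)
  set W := (ρ x).eigenspace μ with hW
  have hWtop : W ≠ ⊤ := fun h => hx ⟨μ, LinearMap.ext fun v => by
    have : v ∈ W := by rw [h]; trivial
    simpa using Module.End.mem_eigenspace_iff.1 this⟩
  have hWlt : finrank K W < finrank K V := Submodule.finrank_lt hWtop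
  have hWpos : 0 < finrank K W := by
    rw [Module.finrank_pos_iff]
    exact Submodule.nontrivial_iff_ne_bot.2 hμ
  set H := centralizer ({x} : Set G) with hH
  have hinv : ∀ h : ↥H, W ≤ W.comap (ρ (h : G)) := by
    intro h v hv
    rw [Submodule.mem_comap, hW, Module.End.mem_eigenspace_iff]
    rw [hW, Module.End.mem_eigenspace_iff] at hv
    rw [← Module.End.mul_apply, ← map_mul, ← mem_centralizer_singleton_iff.1 h.2, map_mul,
      Module.End.mul_apply, hv, map_smul]
  let σ₁ : ↥H →* Module.End K W :=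
    { toFun := fun h => (ρ (h : G)).restrict (hinv h)
      map_one' := LinearMap.ext fun v => Subtype.ext (by simp)
      map_mul' := fun a b => LinearMap.ext fun v => Subtype.ext (by simp) }
  let σ₂ : ↥H →* Module.End K (V ⧸ W) :=
    { toFun := fun h => W.mapQ W (ρ (h : G)) (hinv h)
      map_one' := Submodule.linearMap_qext _ (LinearMap.ext fun v => by simp)
      map_mul' := fun a b => Submodule.linearMap_qext _ (LinearMap.ext fun v => by simp) }
  have hker : ∀ k : ↥H, σ₁ k = 1 → σ₂ k = 1 → k ^ p = 1 := by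
    intro k h1 h2
    apply Subtype.ext
    apply hρ
    rw [SubgroupClass.coe_pow, map_pow, Subgroup.coe_one, map_one]
    refine pow_char_eq_one nsmul_end_eq_zero (LinearMap.ext fun v => ?_)
    have hv : ρ (k : G) v - v ∈ W := by
      have := LinearMap.congr_fun h2 (Submodule.Quotient.mk v)
      simp only [σ₂, MonoidHom.coe_mk, OneHom.coe_mk, Submodule.mapQ_apply,
        Module.End.one_apply] at this
      exact (Submodule.Quotient.eq W).1 this
    have hw := congrArg Subtype.val (LinearMap.congr_fun h1 ⟨_, hv⟩)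
    simp only [σ₁, MonoidHom.coe_mk, OneHom.coe_mk, LinearMap.coe_restrict_apply,
      Module.End.one_apply] at hw
    rw [Module.End.mul_apply, LinearMap.zero_apply, LinearMap.sub_apply, LinearMap.sub_apply,
      Module.End.one_apply, Module.End.one_apply, hw, sub_self]
  have hBH : p ^ (Nat.card ↥H).factorization p ≤ B :=
    sylowBound_of_dvd (Subgroup.card_subgroup_dvd_card H) Nat.card_pos.ne' hB
  have hq : finrank K (V ⧸ W) ≤ n := by
    have := W.finrank_quotient_add_finrank
    omega
  obtain ⟨Q, hQcomm, hQord, hQc⟩ := exists_abelian_of_pair σ₁ σ₂ hker hBH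
    (exists_of_image hJ (by omega) σ₁ hBH) (exists_of_image hJ hq σ₂ hBH)
  set Q' := Q.map H.subtype with hQ'
  have hQ'H : Q' ≤ H := Subgroup.map_subtype_le _
  have hZc := scalars_le_center hρ
  have hn : (scalars ρ).Normal := ⟨fun z hz g => by
    rwa [Subgroup.mem_center_iff.1 (hZc hz) g, mul_inv_cancel_right]⟩
  refine ⟨Q' ⊔ scalars ρ, ⟨?_, le_sup_right, ?_⟩, sup_le hQ'H ?_, ?_⟩
  · intro a ha b hb
    obtain ⟨_, ⟨y, hy, rfl⟩, z, hz, rfl⟩ := Subgroup.mem_sup_of_normal_right.1 ha
    obtain ⟨_, ⟨y', hy', rfl⟩, z', hz', rfl⟩ := Subgroup.mem_sup_of_normal_right.1 hb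
    have hyy : (y : G) * y' = y' * y := congrArg Subtype.val (hQcomm y hy y' hy')
    have hcz : ∀ g, Commute g z := fun g => Subgroup.mem_center_iff.1 (hZc hz) g
    have hcz' : ∀ g, Commute g z' := fun g => Subgroup.mem_center_iff.1 (hZc hz') g
    exact (((show Commute (y : G) y' from hyy).mul_right (hcz' _)).mul_left
      (((hcz _).symm).mul_right (hcz' _))).eq
  · intro a ha hd
    obtain ⟨_, ⟨y, hy, rfl⟩, z, hz, rfl⟩ := Subgroup.mem_sup_of_normal_right.1 ha
    have hcomm : Commute (y : G) z := Subgroup.mem_center_iff.1 (hZc hz) _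
    have h1 := hd.trans (hcomm.orderOf_mul_dvd_lcm.trans (Nat.lcm_dvd_mul _ _))
    rcases hp.out.dvd_mul.1 h1 with h2 | h2
    · rw [Subgroup.orderOf_coe] at h2
      exact hQord y hy h2
    · exact scalars_order hρ hz h2
  · intro z hz
    rw [hH, mem_centralizer_singleton_iff]
    exact (Subgroup.mem_center_iff.1 (hZc hz) x).symm
  · refine hQc.trans (Nat.mul_le_mul_left _ ?_)
    rw [← Subgroup.card_map_of_injective H.subtype_injective]
    exact Subgroup.card_le_of_le le_sup_left

theorem exists_bound_succ {B n J : ℕ} (hJ : Bound.{u, v} p B n J) :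
    ∃ J' : ℕ, Bound.{u, v} p B (n + 1) J' := by
  set J₀ := max J 1 with hJ₀
  set L := J₀ * J₀ * (Nat.factorial B * max B 1) with hL
  have hL1 : 1 ≤ L := Nat.one_le_iff_ne_zero.2 (by positivity)
  obtain ⟨J', hJ'⟩ := Tori.exists_bound.{u} L (Nat.factorial (n + 1)) (n + 1)
    ((n + 1) * (n + 1)) hL1
  refine ⟨J', fun K _ _ _ V _ _ _ hV G _ _ ρ hρ hB => ?_⟩
  refine hJ' G (scalars ρ) (fun A => (∀ a ∈ A, ∀ b ∈ A, a * b = b * a) ∧ scalars ρ ≤ A ∧
    ∀ a ∈ A, ¬ p ∣ orderOf a) ?_
  have hord : ∀ A : Subgroup G, (∀ a ∈ A, ¬ p ∣ orderOf a) → ∀ a ∈ A, (orderOf a : K) ≠ 0 :=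
    fun A hA a ha h0 => hA a ha ((CharP.cast_eq_zero_iff K p _).1 h0)
  refine
    { center := scalars_le_center hρ
      comm := fun A hA => hA.1
      le := fun A hA => hA.2.1
      mono := fun A C hA hZC hCA => ⟨fun a ha b hb => hA.1 a (hCA ha) b (hCA hb), hZC,
        fun a ha => hA.2.2 a (hCA ha)⟩
      conj := ?_
      cent := ?_
      torsion := fun A hA k hk => Weights.card_le_torsion hρ hA.1 (hord A hA.2.2) hV hk
      normalizer := fun A hA => Weights.card_normalizer_le hρ hA.1 (hord A hA.2.2) hV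
      chain := fun f _ hf => Linear.chain hρ hV f hf
      twist := twist_le hρ (Nat.le_add_left 1 n) hV }
  · rintro A g ⟨hc, hle, ho⟩
    refine ⟨?_, ?_, ?_⟩
    · intro a ha b hb
      rw [Subgroup.mem_pointwise_smul_iff_inv_smul_mem] at ha hb
      have := congrArg (fun t => MulAut.conj g • t) (hc _ ha _ hb)
      simpa [smul_mul', mul_assoc] using this
    · intro z hz
      rw [← conj_smul_of_mem (scalars_le_center hρ) g hz]
      exact Subgroup.smul_mem_pointwise_smul _ _ _ (hle hz)
    · intro a ha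
      rw [Subgroup.mem_pointwise_smul_iff_inv_smul_mem] at ha
      have := ho _ ha
      rwa [MulAut.smul_def, MulEquiv.orderOf_eq] at this
  · intro x hx
    obtain ⟨A, hA, hAle, hAc⟩ := exists_cent hJ hV hρ hB hx
    refine ⟨A, hA, hAle, hAc.trans (Nat.mul_le_mul_right _ ?_)⟩
    rw [hL]
    exact Nat.mul_le_mul (Nat.mul_le_mul (le_max_left _ _) (le_max_left _ _))
      (Nat.mul_le_mul_left _ (le_max_left _ _))

theorem exists_bound (p : ℕ) [Fact p.Prime] (B n : ℕ) : ∃ J : ℕ, Bound.{u, v} p B n J := by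
  induction n with
  | zero =>
    refine ⟨1, fun K _ _ _ V _ _ _ hV G _ _ ρ hρ _ => ⟨⊥, by simp, ?_⟩⟩
    have : Subsingleton V := finrank_zero_iff.1 (Nat.le_zero.1 hV)
    have : Subsingleton G := ⟨fun a b => hρ (Subsingleton.elim _ _)⟩
    calc Nat.card G ≤ 1 := Finite.card_le_one_iff_subsingleton.2 inferInstance
      _ ≤ _ := by simp
  | succ n ih =>
    obtain ⟨J, hJ⟩ := ih
    exact exists_bound_succ hJ

/-- Brauer–Feit over an arbitrary field of characteristic `p`. -/
theorem brauer_feit (p : ℕ) [Fact p.Prime] (B n : ℕ) :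
    ∃ J : ℕ, ∀ (G : Type u) [Group G] [Finite G] (F : Type v) [Field F] [CharP F p]
      (ρ : G →* Module.End F (Fin n → F)), Function.Injective ρ →
      p ^ (Nat.card G).factorization p ≤ B →
      ∃ A : Subgroup G, A.Normal ∧ IsMulCommutative A ∧ A.index ≤ J := by
  obtain ⟨J, hJ⟩ := exists_bound.{u, v} p B n
  refine ⟨Nat.factorial J, fun G _ _ F _ _ ρ hρ hB => ?_⟩
  let K := AlgebraicClosure F
  have : CharP K p := charP_of_injective_algebraMap (algebraMap F K).injective p
  let φ : Module.End F (Fin n → F) →* Module.End K (Fin n → K) :=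
    ((Matrix.toLinAlgEquiv' : Matrix (Fin n) (Fin n) K ≃ₐ[K] _).toAlgHom.toRingHom.toMonoidHom.comp
      ((algebraMap F K).mapMatrix.toMonoidHom)).comp
      (LinearMap.toMatrixAlgEquiv' : Module.End F (Fin n → F) ≃ₐ[F] _).toAlgHom.toRingHom.toMonoidHom
  have hφ : Function.Injective φ :=
    (Matrix.toLinAlgEquiv'.injective.comp
      (fun A A' h => Matrix.ext fun i j =>
        (algebraMap F K).injective (congrFun (congrFun h i) j))).comp
      LinearMap.toMatrixAlgEquiv'.injective
  obtain ⟨A, hA, hAc⟩ := hJ K (Fin n → K) (by simp) G (φ.comp ρ) (hφ.comp hρ) hB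
  refine ⟨A.normalCore, inferInstance, ⟨⟨fun a b =>
    Subtype.ext (hA _ (A.normalCore_le a.2) _ (A.normalCore_le b.2))⟩⟩, ?_⟩
  have hidx : A.index ≤ J := by
    rw [← A.card_mul_index, mul_comm J] at hAc
    exact Nat.le_of_mul_le_mul_left hAc Nat.card_pos
  rw [Subgroup.normalCore_eq_ker, Subgroup.index_ker]
  refine (Subgroup.card_le_card_group _).trans ?_
  rw [Nat.card_perm, ← Subgroup.index_eq_card]
  exact Nat.factorial_le hidx

end Cfsg.Agent.Lib.BrauerFeit.Main
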