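import Cfsg.Agent.Lib.BrauerFeit.Count

set_option autoImplicit false

/-!
Saturated abelian subgroups and their canonical cores (the "tori" of Brauer–Feit).
-/

open Subgroup MulAction Cfsg.Agent.Lib.BrauerFeit.Basic Cfsg.Agent.Lib.BrauerFeit.Count
open scoped Pointwise

namespace Cfsg.Agent.Lib.BrauerFeit.Tori

variable {G : Type*} [Group G]

/-- The hypotheses on the abelian subgroups under consideration. -/
structure Ctx (Z : Subgroup G) (P : Subgroup G → Prop) (L D n N : ℕ) : Prop where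
  center : Z ≤ Subgroup.center G
  comm : ∀ A, P A → ∀ a ∈ A, ∀ b ∈ A, a * b = b * a
  le : ∀ A, P A → Z ≤ A
  mono : ∀ A B, P A → Z ≤ B → B ≤ A → P B
  conj : ∀ A (g : G), P A → P (MulAut.conj g • A)
  cent : ∀ x, x ∉ Z → ∃ A, P A ∧ A ≤ centralizer ({x} : Set G) ∧
    Nat.card ↥(centralizer ({x} : Set G)) ≤ L * Nat.card ↥A
  torsion : ∀ A, P A → ∀ k, 0 < k → Nat.card ↥A ≤ k ^ n * Nat.card ↥(pw Z k A)
  normalizer : ∀ A, P A →
    Nat.card ↥(Subgroup.normalizer (A : Set G)) ≤ D * Nat.card ↥(centralizer (A : Set G))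
  chain : ∀ f : ℕ → Subgroup G, (∀ i, P (f i)) → Antitone f →
    ∃ i ≤ N, centralizer (f i : Set G) = centralizer (f (i + 1) : Set G)
  twist : ∀ x, Nat.card {y : G // y * x * y⁻¹ * x⁻¹ ∈ Z} ≤
    n * Nat.card ↥(centralizer ({x} : Set G))

/-- Saturated members of the system. -/
def Sat (Z : Subgroup G) (P : Subgroup G → Prop) (Λ : ℕ) (T : Subgroup G) : Prop :=
  P T ∧ Λ ^ 2 * Nat.card ↥Z < Nat.card ↥T ∧
    ∀ z ∈ T, z ∉ Z → Nat.card ↥(centralizer ({z} : Set G)) ≤ Λ * Nat.card ↥T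

/-- The canonical core of a saturated member. -/
def core (Z : Subgroup G) (P : Subgroup G → Prop) (Λ : ℕ) (T : Subgroup G) : Subgroup G :=
  sInf {T' | Sat Z P Λ T' ∧ ∃ z ∈ T, z ∈ T' ∧ z ∉ Z}

variable [Finite G] {Z : Subgroup G} {P : Subgroup G → Prop} {L D n N : ℕ}

theorem stable_step (h : Ctx Z P L D n N) {S : Subgroup G} (hS : P S) {Q : ℕ}
    (hQ : Q = (Nat.factorial L ^ N) ^ n) (hbig : Q * Nat.card ↥Z < Nat.card ↥S) :
    ∃ U A, U ≤ S ∧ P U ∧ Nat.card ↥S ≤ Q * Nat.card ↥U ∧ P A ∧ A ≤ centralizer (U : Set G) ∧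
      (∀ z ∈ U, z ∉ Z → Nat.card ↥(centralizer ({z} : Set G)) ≤ L ^ 2 * Nat.card ↥A) ∧
      Nat.card ↥S ≤ L * Nat.card ↥(S ⊓ A) := by
  set k := Nat.factorial L with hk
  have hk0 : 0 < k := Nat.factorial_pos L
  set f : ℕ → Subgroup G := fun i => pw Z (k ^ i) S with hf
  have hfS : ∀ i, f i ≤ S := fun i => pw_le_self _ (h.le S hS)
  have hfP : ∀ i, P (f i) := fun i => h.mono S _ hS (le_pw _ _ _) (hfS i)
  have hanti : Antitone f := antitone_nat_of_succ_le fun i => by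
    refine pw_le_iff.2 ⟨le_pw _ _ _, fun a ha => ?_⟩
    rw [pow_succ', pow_mul]
    exact pow_mem_pw _ _ (pow_mem ha k)
  obtain ⟨i, hi, heq⟩ := h.chain f hfP hanti
  have hcardU : Nat.card ↥S ≤ Q * Nat.card ↥(f i) := by
    refine (h.torsion S hS (k ^ i) (pow_pos hk0 i)).trans ?_
    rw [hQ]
    exact Nat.mul_le_mul_right _ (Nat.pow_le_pow_left (Nat.pow_le_pow_right hk0 hi) n)
  have hUbig : Nat.card ↥Z < Nat.card ↥(f i) := by
    by_contra hc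
    exact absurd (hcardU.trans (Nat.mul_le_mul_left Q (not_lt.1 hc))) (not_le.2 hbig)
  obtain ⟨z₀, hz₀, hz₀Z⟩ := card_lt_exists hUbig
  have key : ∀ z ∈ f i, z ∉ Z → ∃ A, P A ∧ A ≤ centralizer (f i : Set G) ∧
      centralizer (f i : Set G) ≤ centralizer ({z} : Set G) ∧
      Nat.card ↥(centralizer ({z} : Set G)) ≤ L * Nat.card ↥A := by
    intro z hz hzZ
    obtain ⟨A, hA, hAle, hAc⟩ := h.cent z hzZ
    refine ⟨A, hA, ?_, Subgroup.centralizer_le (by simpa using hz), hAc⟩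
    rw [heq]
    have hle : f i ≤ centralizer ({z} : Set G) :=
      le_centralizer_singleton hz (h.comm _ (hfP i))
    have hsub : f (i + 1) ≤ A := by
      refine pw_le_iff.2 ⟨h.le A hA, fun a ha => ?_⟩
      rw [pow_succ, pow_mul]
      apply pow_factorial_mem hAle hAc
      apply hle
      exact pow_mem_pw _ _ ha
    intro a ha
    rw [mem_centralizer_iff]
    intro b hb
    exact h.comm A hA b (hsub hb) a ha
  obtain ⟨A, hA, hAM, hMz, hAc⟩ := key z₀ hz₀ hz₀Z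
  refine ⟨f i, A, hfS i, hfP i, hcardU, hA, hAM, ?_, ?_⟩
  · intro z hz hzZ
    obtain ⟨A', hA', hA'M, -, hA'c⟩ := key z hz hzZ
    have hM : Nat.card ↥(centralizer (f i : Set G)) ≤ L * Nat.card ↥A :=
      (Subgroup.card_le_of_le hMz).trans hAc
    calc _ ≤ L * Nat.card ↥A' := hA'c
      _ ≤ L * Nat.card ↥(centralizer (f i : Set G)) :=
          Nat.mul_le_mul_left _ (Subgroup.card_le_of_le hA'M)
      _ ≤ L * (L * Nat.card ↥A) := Nat.mul_le_mul_left _ hM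
      _ = _ := by ring
  · refine card_le_mul_inf ?_ hAM ((Subgroup.card_le_of_le hMz).trans hAc)
    intro s hs
    rw [mem_centralizer_iff]
    intro b hb
    exact h.comm S hS b (hfS i hb) s hs

theorem exists_sat (h : Ctx Z P L D n N) (hL : 1 ≤ L) {S : Subgroup G} (hS : P S)
    {Q Λ : ℕ} (hQ : Q = (Nat.factorial L ^ N) ^ n) (hΛ : Λ = L ^ 4 * Q)
    (hbig : Λ ^ 4 * Nat.card ↥Z < Nat.card ↥S) :
    ∃ T, Sat Z P Λ T ∧ Nat.card ↥S ≤ Λ * Nat.card ↥(S ⊓ T) := by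
  have hQ1 : 1 ≤ Q := hQ ▸ Nat.one_le_pow _ _ (pow_pos (Nat.factorial_pos L) N)
  have hL4 : 1 ≤ L ^ 4 := Nat.one_le_pow _ _ hL
  have hQΛ : Q ≤ Λ := hΛ ▸ Nat.le_mul_of_pos_left _ hL4
  have hLΛ : L ≤ Λ := by
    rw [hΛ]
    exact (Nat.le_self_pow (by norm_num) L).trans (Nat.le_mul_of_pos_right _ hQ1)
  have hΛ1 : 1 ≤ Λ := hQ1.trans hQΛ
  obtain ⟨U, A, hUS, hU, hSU, hA, -, hUc, hSA⟩ := stable_step h hS hQ
    (lt_of_le_of_lt (Nat.mul_le_mul_right _ (hQΛ.trans (Nat.le_self_pow (by norm_num) Λ))) hbig)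
  have hAbig' : Λ ^ 3 * Nat.card ↥Z < Nat.card ↥A := by
    by_contra hc
    have : Nat.card ↥S ≤ Λ ^ 4 * Nat.card ↥Z :=
      calc _ ≤ L * Nat.card ↥(S ⊓ A) := hSA
        _ ≤ L * Nat.card ↥A := Nat.mul_le_mul_left _ (Subgroup.card_le_of_le inf_le_right)
        _ ≤ Λ * (Λ ^ 3 * Nat.card ↥Z) := Nat.mul_le_mul hLΛ (not_lt.1 hc)
        _ = _ := by ring
    exact absurd this (not_le.2 hbig)
  obtain ⟨T, A₁, hTA, hT, hAT, hA₁, hA₁T, hTc, hAA₁⟩ := stable_step h hA hQ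
    (lt_of_le_of_lt (Nat.mul_le_mul_right _ (hQΛ.trans (Nat.le_self_pow (by norm_num) Λ))) hAbig')
  have hST : Nat.card ↥S ≤ L * Q * Nat.card ↥(S ⊓ T) :=
    calc _ ≤ L * Nat.card ↥(S ⊓ A) := hSA
      _ ≤ L * (Q * Nat.card ↥((S ⊓ A) ⊓ T)) :=
          Nat.mul_le_mul_left _ (card_le_mul_inf inf_le_right hTA hAT)
      _ ≤ L * (Q * Nat.card ↥(S ⊓ T)) := Nat.mul_le_mul_left _ (Nat.mul_le_mul_left _
          (Subgroup.card_le_of_le (inf_le_inf_right T inf_le_left)))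
      _ = _ := by ring
  have hLQ : L * Q ≤ Λ := hΛ ▸ Nat.mul_le_mul_right _ (Nat.le_self_pow (by norm_num) L)
  refine ⟨T, ⟨hT, ?_, ?_⟩, hST.trans (Nat.mul_le_mul_right _ hLQ)⟩
  · by_contra hc
    have : Nat.card ↥A ≤ Λ ^ 3 * Nat.card ↥Z :=
      calc _ ≤ Q * Nat.card ↥T := hAT
        _ ≤ Λ * (Λ ^ 2 * Nat.card ↥Z) := Nat.mul_le_mul hQΛ (not_lt.1 hc)
        _ = _ := by ring
    exact absurd this (not_le.2 hAbig')
  · have hUT : ∃ z ∈ U ⊓ T, z ∉ Z := by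
      apply card_lt_exists
      by_contra hc
      have h1 : Nat.card ↥U ≤ L * Q * Q * Nat.card ↥(U ⊓ T) := by
        have hm := card_mul_card_le hUS (inf_le_left : S ⊓ T ≤ S)
        have : Nat.card ↥U * Nat.card ↥(S ⊓ T) ≤
            (L * Q * Q * Nat.card ↥(U ⊓ T)) * Nat.card ↥(S ⊓ T) :=
          calc _ ≤ Nat.card ↥S * Nat.card ↥(U ⊓ (S ⊓ T)) := hm
            _ ≤ (L * Q * Nat.card ↥(S ⊓ T)) * Nat.card ↥(U ⊓ T) :=
                Nat.mul_le_mul hST (Subgroup.card_le_of_le (inf_le_inf_left U inf_le_right))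
            _ ≤ (L * Q * Nat.card ↥(S ⊓ T)) * (Q * Nat.card ↥(U ⊓ T)) :=
                Nat.mul_le_mul_left _ (Nat.le_mul_of_pos_left _ hQ1)
            _ = _ := by ring
        exact Nat.le_of_mul_le_mul_right this Nat.card_pos
      have h2 : Nat.card ↥S ≤ Λ ^ 4 * Nat.card ↥Z :=
        calc _ ≤ Q * Nat.card ↥U := hSU
          _ ≤ Q * (L * Q * Q * Nat.card ↥(U ⊓ T)) := Nat.mul_le_mul_left _ h1
          _ ≤ Λ * (Λ * Λ * Nat.card ↥Z) := by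
              gcongr
              exact not_lt.1 hc
          _ ≤ Λ * (Λ * Λ * Nat.card ↥Z) * Λ := Nat.le_mul_of_pos_right _ hΛ1
          _ = _ := by ring
      exact absurd h2 (not_le.2 hbig)
    obtain ⟨z, hzUT, hzZ⟩ := hUT
    have hA₁z : Nat.card ↥A₁ ≤ L ^ 2 * Nat.card ↥A := by
      refine (Subgroup.card_le_of_le ?_).trans (hUc z hzUT.1 hzZ)
      exact hA₁T.trans (Subgroup.centralizer_le (by simpa using hzUT.2))
    intro w hw hwZ
    calc _ ≤ L ^ 2 * Nat.card ↥A₁ := hTc w hw hwZ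
      _ ≤ L ^ 2 * (L ^ 2 * (Q * Nat.card ↥T)) :=
          Nat.mul_le_mul_left _ (hA₁z.trans (Nat.mul_le_mul_left _ hAT))
      _ = Λ * Nat.card ↥T := by rw [hΛ]; ring

theorem sat_conj (h : Ctx Z P L D n N) {Λ : ℕ} {T : Subgroup G} (hT : Sat Z P Λ T) (g : G) :
    Sat Z P Λ (MulAut.conj g • T) := by
  refine ⟨h.conj T g hT.1, by rw [card_smul]; exact hT.2.1, fun z hz hzZ => ?_⟩
  obtain ⟨y, hy, rfl⟩ := Subgroup.mem_smul_pointwise_iff_exists z _ _ |>.1 hz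
  have hyZ : y ∉ Z := fun hc => hzZ ((conj_smul_mem_iff h.center g y).2 hc)
  rw [centralizer_conj, card_smul, card_smul]
  exact hT.2.2 y hy hyZ

theorem sat_inf (h : Ctx Z P L D n N) {Λ : ℕ} {T T' : Subgroup G} (hT : Sat Z P Λ T)
    (hT' : Sat Z P Λ T') {z : G} (hz : z ∈ T) (hz' : z ∈ T') (hzZ : z ∉ Z) :
    Nat.card ↥T' ≤ Λ * Nat.card ↥(T' ⊓ T) :=
  card_le_mul_inf (le_centralizer_singleton hz' (h.comm _ hT'.1))
    (le_centralizer_singleton hz (h.comm _ hT.1)) (hT.2.2 z hz hzZ)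

theorem sat_trans (h : Ctx Z P L D n N) {Λ : ℕ} {T T' T'' : Subgroup G} (hT : Sat Z P Λ T)
    (hT' : Sat Z P Λ T') (hT'' : Sat Z P Λ T'') (h1 : ∃ z ∈ T, z ∈ T' ∧ z ∉ Z)
    (h2 : ∃ z ∈ T', z ∈ T'' ∧ z ∉ Z) : ∃ z ∈ T, z ∈ T'' ∧ z ∉ Z := by
  obtain ⟨u, hu, hu', huZ⟩ := h1
  obtain ⟨v, hv', hv, hvZ⟩ := h2
  have e1 := sat_inf h hT hT' hu hu' huZ
  have e2 := sat_inf h hT'' hT' hv hv' hvZ
  have e3 : Nat.card ↥(T' ⊓ T) ≤ Λ * Nat.card ↥((T' ⊓ T) ⊓ (T' ⊓ T'')) :=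
    card_le_mul_inf inf_le_left inf_le_left e2
  obtain ⟨z, hz, hzZ⟩ := card_lt_exists (Z := Z) (U := (T' ⊓ T) ⊓ (T' ⊓ T'')) (by
    by_contra hc
    exact absurd (e1.trans (Nat.mul_le_mul_left _
      (e3.trans (Nat.mul_le_mul_left _ (not_lt.1 hc)))))
      (not_le.2 (by rw [← mul_assoc, ← pow_two]; exact hT'.2.1)))
  exact ⟨z, hz.1.2, hz.2.2, hzZ⟩

theorem sat_meets_self {Λ : ℕ} (hΛ : 1 ≤ Λ) {T : Subgroup G} (hT : Sat Z P Λ T) :
    ∃ z ∈ T, z ∈ T ∧ z ∉ Z := by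
  obtain ⟨z, hz, hzZ⟩ := card_lt_exists (lt_of_le_of_lt
    (Nat.le_mul_of_pos_left _ (pow_pos hΛ 2)) hT.2.1)
  exact ⟨z, hz, hz, hzZ⟩

theorem core_le {Λ : ℕ} (hΛ : 1 ≤ Λ) {T : Subgroup G} (hT : Sat Z P Λ T) :
    core Z P Λ T ≤ T :=
  sInf_le ⟨hT, sat_meets_self hΛ hT⟩

theorem pw_le_core (h : Ctx Z P L D n N) {Λ : ℕ} {T : Subgroup G} (hT : Sat Z P Λ T) :
    pw Z (Nat.factorial Λ) T ≤ core Z P Λ T := by
  refine le_sInf ?_
  rintro T' ⟨hT', z, hz, hz', hzZ⟩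
  refine pw_le_iff.2 ⟨h.le T' hT'.1, fun a ha => ?_⟩
  exact pow_factorial_mem (le_centralizer_singleton hz' (h.comm _ hT'.1)) (hT'.2.2 z hz' hzZ)
    (le_centralizer_singleton hz (h.comm _ hT.1) ha)

theorem core_eq (h : Ctx Z P L D n N) {Λ : ℕ} {T T' : Subgroup G} (hT : Sat Z P Λ T)
    (hT' : Sat Z P Λ T') (hm : ∃ z ∈ T, z ∈ T' ∧ z ∉ Z) : core Z P Λ T = core Z P Λ T' := by
  have hm' : ∃ z ∈ T', z ∈ T ∧ z ∉ Z := by
    obtain ⟨z, a, b, c⟩ := hm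
    exact ⟨z, b, a, c⟩
  apply congrArg sInf
  ext X
  exact ⟨fun hX => ⟨hX.1, sat_trans h hT' hT hX.1 hm' hX.2⟩,
    fun hX => ⟨hX.1, sat_trans h hT hT' hX.1 hm hX.2⟩⟩

theorem core_conj (h : Ctx Z P L D n N) {Λ : ℕ} (g : G) (T : Subgroup G) :
    core Z P Λ (MulAut.conj g • T) = MulAut.conj g • core Z P Λ T := by
  have hle : ∀ (g : G) (T : Subgroup G),
      MulAut.conj g • core Z P Λ T ≤ core Z P Λ (MulAut.conj g • T) := by
    intro g T
    refine le_sInf ?_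
    rintro X ⟨hX, z, hz, hzX, hzZ⟩
    rw [Subgroup.pointwise_smul_subset_iff, ← map_inv]
    refine sInf_le ⟨sat_conj h hX g⁻¹, MulAut.conj g⁻¹ • z, ?_,
      Subgroup.smul_mem_pointwise_smul _ _ _ hzX, by rwa [conj_smul_mem_iff h.center]⟩
    rw [map_inv]
    rwa [Subgroup.mem_pointwise_smul_iff_inv_smul_mem] at hz
  refine le_antisymm ?_ (hle g T)
  have := hle g⁻¹ (MulAut.conj g • T)
  rw [map_inv, inv_smul_smul, Subgroup.pointwise_smul_subset_iff, inv_inv] at this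
  exact this

/-- A group with such a system has an abelian subgroup of bounded index. -/
theorem exists_bound (L D n N : ℕ) (hL : 1 ≤ L) :
    ∃ J : ℕ, ∀ (G : Type*) [Group G] [Finite G] (Z : Subgroup G) (P : Subgroup G → Prop),
      Ctx Z P L D n N →
        ∃ A : Subgroup G, (∀ a ∈ A, ∀ b ∈ A, a * b = b * a) ∧
          Nat.card G ≤ J * Nat.card ↥A := by
  classical
  set Q := (Nat.factorial L ^ N) ^ n with hQ
  set Λ := L ^ 4 * Q with hΛ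
  set Pb := Nat.factorial Λ ^ n with hPb
  set W := L * Λ * Pb with hW
  set R₁ := L * Λ ^ 4 + W + 1 with hR
  set d := D * (Λ * Pb) with hd
  refine ⟨d + mult n d W (scale n d W R₁ (2 * d)), fun G _ _ Z P h => ?_⟩
  have hQ1 : 1 ≤ Q := Nat.one_le_pow _ _ (pow_pos (Nat.factorial_pos L) N)
  have hΛ1 : 1 ≤ Λ := Nat.one_le_iff_ne_zero.2 (by positivity)
  have := Fintype.ofFinite (Subgroup G)
  set S := (Finset.univ.filter fun T : Subgroup G => Sat Z P Λ T).image (core Z P Λ) with hS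
  have hmemS : ∀ U, U ∈ S ↔ ∃ T, Sat Z P Λ T ∧ core Z P Λ T = U := fun U => by
    simp [hS]
  have hcore : ∀ T, Sat Z P Λ T → P (core Z P Λ T) ∧ Z ≤ core Z P Λ T ∧
      Nat.card ↥T ≤ Pb * Nat.card ↥(core Z P Λ T) := fun T hT => by
    have hZ : Z ≤ core Z P Λ T := (le_pw _ _ _).trans (pw_le_core h hT)
    exact ⟨h.mono T _ hT.1 hZ (core_le hΛ1 hT), hZ,
      (h.torsion T hT.1 _ (Nat.factorial_pos Λ)).trans
        (Nat.mul_le_mul_left _ (Subgroup.card_le_of_le (pw_le_core h hT)))⟩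
  refine Count.exists_abelian (Z := Z) (T := S) (R₁ := R₁) (W := W) (n := n) (d := d)
    { center := h.center
      le := ?_, comm := ?_, conj := ?_, ti := ?_, normalizer := ?_, assoc := ?_
      twist := h.twist
      one_le := Nat.le_add_left _ _
      one_le_W := Nat.one_le_iff_ne_zero.2 (by positivity)
      W_le := by omega }
  · intro U hU
    obtain ⟨T, hT, rfl⟩ := (hmemS U).1 hU
    exact (hcore T hT).2.1
  · intro U hU
    obtain ⟨T, hT, rfl⟩ := (hmemS U).1 hU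
    exact h.comm _ (hcore T hT).1
  · intro U hU g
    obtain ⟨T, hT, rfl⟩ := (hmemS U).1 hU
    exact (hmemS _).2 ⟨_, sat_conj h hT g, core_conj h g T⟩
  · intro U hU U' hU' z hz hz' hzZ
    obtain ⟨T, hT, rfl⟩ := (hmemS U).1 hU
    obtain ⟨T', hT', rfl⟩ := (hmemS U').1 hU'
    exact core_eq h hT hT' ⟨z, core_le hΛ1 hT hz, core_le hΛ1 hT' hz', hzZ⟩
  · intro U hU hbig
    obtain ⟨T, hT, rfl⟩ := (hmemS U).1 hU
    obtain ⟨hP, hZ, hTU⟩ := hcore T hT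
    obtain ⟨z, hz, hzZ⟩ := card_lt_exists (Z := Z)
      (lt_of_le_of_lt (Nat.le_mul_of_pos_left _ (Nat.le_add_left 1 _)) hbig)
    refine (h.normalizer _ hP).trans ?_
    rw [hd, mul_assoc]
    refine Nat.mul_le_mul_left _ ?_
    calc _ ≤ Nat.card ↥(centralizer ({z} : Set G)) :=
          Subgroup.card_le_of_le (Subgroup.centralizer_le (by simpa using hz))
      _ ≤ Λ * Nat.card ↥T := hT.2.2 z (core_le hΛ1 hT hz) hzZ
      _ ≤ Λ * (Pb * Nat.card ↥(core Z P Λ T)) := Nat.mul_le_mul_left _ hTU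
      _ = _ := by ring
  · intro y hy hbig
    obtain ⟨A, hA, hAle, hAc⟩ := h.cent y hy
    have hAbig : Λ ^ 4 * Nat.card ↥Z < Nat.card ↥A := by
      by_contra hc
      refine absurd ?_ (not_le.2 hbig)
      calc _ ≤ L * Nat.card ↥A := hAc
        _ ≤ L * (Λ ^ 4 * Nat.card ↥Z) := Nat.mul_le_mul_left _ (not_lt.1 hc)
        _ ≤ _ := by rw [← mul_assoc]; exact Nat.mul_le_mul_right _ (by omega)
    obtain ⟨T, hT, hAT⟩ := exists_sat h hL hA hQ hΛ hAbig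
    refine ⟨core Z P Λ T, (hmemS _).2 ⟨T, hT, rfl⟩, ?_⟩
    calc _ ≤ L * Nat.card ↥A := hAc
      _ ≤ L * (Λ * Nat.card ↥(A ⊓ T)) := Nat.mul_le_mul_left _ hAT
      _ ≤ L * (Λ * (Pb * Nat.card ↥((A ⊓ T) ⊓ core Z P Λ T))) := by
          refine Nat.mul_le_mul_left _ (Nat.mul_le_mul_left _ ?_)
          exact card_le_mul_inf inf_le_right (core_le hΛ1 hT) (hcore T hT).2.2
      _ ≤ L * (Λ * (Pb * Nat.card ↥(centralizer ({y} : Set G) ⊓ core Z P Λ T))) :=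
          Nat.mul_le_mul_left _ (Nat.mul_le_mul_left _ (Nat.mul_le_mul_left _
            (Subgroup.card_le_of_le (inf_le_inf_right _ (inf_le_left.trans hAle)))))
      _ = _ := by rw [hW]; ring

end Cfsg.Agent.Lib.BrauerFeit.Tori
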